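import Groth.Agent.CIRingLib.Mor
import Groth.Agent.S0114
import Mathlib

/-!
# Properties of complete intersection morphisms
-/

set_option autoImplicit false
set_option linter.style.haveILetI false

universe u

open CategoryTheory CategoryTheory.Limits AlgebraicGeometry IsLocalRing

namespace CIRingLib

theorem isNoetherianRing_stalk_of_lft {X S : Scheme.{u}} (f : X ⟶ S) [LocallyOfFiniteType f] (x : X)
    [IsNoetherianRing (S.presheaf.stalk (f x))] : IsNoetherianRing (X.presheaf.stalk x) := by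
  obtain ⟨V, hV, hxV, -⟩ := exists_isAffineOpen_mem_and_subset (x := f x) (U := ⊤) trivial
  obtain ⟨U, hU, hxU, hUV⟩ := exists_isAffineOpen_mem_and_subset (x := x) (U := f ⁻¹ᵁ V) hxV
  letI := (f.appLE V U hUV).hom.toAlgebra
  haveI : Algebra.FiniteType Γ(S, V) Γ(X, U) := f.finiteType_appLE hV hU hUV
  letI : Algebra Γ(X, U) (X.presheaf.stalk x) := TopCat.Presheaf.algebra_section_stalk X.presheaf ⟨x, hxU⟩
  haveI := hU.isLocalization_stalk ⟨x, hxU⟩
  letI : Algebra Γ(S, V) (S.presheaf.stalk (f x)) := TopCat.Presheaf.algebra_section_stalk S.presheaf ⟨f x, hxV⟩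
  letI := (f.stalkMap x).hom.toAlgebra
  letI : Algebra Γ(S, V) (X.presheaf.stalk x) :=
    ((algebraMap Γ(X, U) (X.presheaf.stalk x)).comp (f.appLE V U hUV).hom).toAlgebra
  haveI : IsScalarTower Γ(S, V) Γ(X, U) (X.presheaf.stalk x) := IsScalarTower.of_algebraMap_eq fun _ => rfl
  haveI : IsScalarTower Γ(S, V) (S.presheaf.stalk (f x)) (X.presheaf.stalk x) :=
    IsScalarTower.of_algebraMap_eq fun a => by
      show (X.presheaf.germ U x hxU).hom ((f.appLE V U hUV).hom a) =
        (f.stalkMap x).hom ((S.presheaf.germ V (f x) hxV).hom a)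
      exact (Scheme.Hom.germ_stalkMap_apply f V x hxV a).trans
        (TopCat.Presheaf.germ_res_apply X.presheaf (homOfLE hUV) x hxU _).symm |>.symm
  haveI : Algebra.EssFiniteType Γ(X, U) (X.presheaf.stalk x) :=
    Algebra.EssFiniteType.of_isLocalization (X.presheaf.stalk x) (hU.primeIdealOf ⟨x, hxU⟩).asIdeal.primeCompl
  haveI : Algebra.EssFiniteType Γ(S, V) (X.presheaf.stalk x) :=
    Algebra.EssFiniteType.comp Γ(S, V) Γ(X, U) _
  haveI : Algebra.EssFiniteType (S.presheaf.stalk (f x)) (X.presheaf.stalk x) :=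
    Algebra.EssFiniteType.of_comp Γ(S, V) (S.presheaf.stalk (f x)) (X.presheaf.stalk x)
  exact Algebra.EssFiniteType.isNoetherianRing (S.presheaf.stalk (f x)) _

theorem isCIMorphism_baseChange {X S S' : Scheme.{u}} (f : X ⟶ S) (g : S' ⟶ S) (hf : CInt.IsCIMorphism f) :
    CInt.IsCIMorphism (pullback.snd f g) := by
  rw [← isSyntomicMor_iff_isCIMorphism, TransLib.isSyntomicMor_iff] at hf ⊢
  exact MorphismProperty.pullback_snd (P := TransLib.SyntMor) _ _ hf

theorem isCIMorphism_comp {X Y Z : Scheme.{u}} (f : X ⟶ Y) (g : Y ⟶ Z) (hf : CInt.IsCIMorphism f)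
    (hg : CInt.IsCIMorphism g) : CInt.IsCIMorphism (f ≫ g) := by
  rw [← isSyntomicMor_iff_isCIMorphism, KoszAtLib.isSyntomicMor_iff_flat_lciMor] at hf hg ⊢
  haveI := hf.1
  haveI := hg.1
  exact ⟨inferInstance, MorphismProperty.comp_mem KoszAtLib.LCIMor f g hf.2 hg.2⟩

theorem isCompleteIntersection_stalk {X S : Scheme.{u}} (f : X ⟶ S) (hf : CInt.IsCIMorphism f) (x : X)
    [IsNoetherianRing (S.presheaf.stalk (f x))] (hs : Pi1.IsCompleteIntersection (S.presheaf.stalk (f x))) :
    Pi1.IsCompleteIntersection (X.presheaf.stalk x) := by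
  obtain ⟨hfl, hlfp, hfib⟩ := (isCIMorphism_iff f).1 hf
  obtain ⟨_, hq⟩ := hfib x
  haveI := isNoetherianRing_stalk_of_lft f x
  letI := (f.stalkMap x).hom.toAlgebra
  haveI : Module.Flat (S.presheaf.stalk (f x)) (X.presheaf.stalk x) := Flat.stalkMap f x
  haveI : IsLocalHom (algebraMap (S.presheaf.stalk (f x)) (X.presheaf.stalk x)) :=
    inferInstanceAs (IsLocalHom (f.stalkMap x).hom)
  haveI : IsLocalRing (X.presheaf.stalk x ⧸ (maximalIdeal (S.presheaf.stalk (f x))).map
    (algebraMap (S.presheaf.stalk (f x)) (X.presheaf.stalk x))) := ‹_›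
  exact isCompleteIntersection_iff_of_flat.2 ⟨hs, hq⟩

theorem isSyntomicMor_of_comp_fppf {X Y S : Scheme.{u}} (f : X ⟶ Y) (q : Y ⟶ S)
    [Surjective f] [Flat f] [LocallyOfFinitePresentation f] (h : Synt.IsSyntomicMor (f ≫ q)) :
    Synt.IsSyntomicMor q ∧ Synt.IsSyntomicMor f := by
  rw [isSyntomicMor_iff_isCIMorphism, isCIMorphism_iff] at h
  obtain ⟨hfl, hlfp, hfib⟩ := h
  haveI := Groth.Agent.S0114.result f q
  have hst : ∀ x, (f.stalkMap x).hom.Flat := fun x => Flat.stalkMap f x
  haveI : Flat q := by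
    rw [Flat.iff_flat_stalkMap]
    intro y
    obtain ⟨x, rfl⟩ := f.surjective y
    refine SweepSix.flat_of_comp _ (f.stalkMap x).hom (hst x) ?_
    rw [← show ((f ≫ q).stalkMap x).hom = (f.stalkMap x).hom.comp (q.stalkMap (f x)).hom from
      congrArg CommRingCat.Hom.hom (Scheme.Hom.stalkMap_comp f q x)]
    exact Flat.stalkMap (f ≫ q) x
  rw [isSyntomicMor_iff_isCIMorphism, isSyntomicMor_iff_isCIMorphism, isCIMorphism_iff, isCIMorphism_iff]
  refine ⟨⟨inferInstance, inferInstance, fun y => ?_⟩, inferInstance, inferInstance,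
    fun x => (ciFib_of_comp f q x (hst x) (hfib x)).1⟩
  obtain ⟨x, rfl⟩ := f.surjective y
  exact (ciFib_of_comp f q x (hst x) (hfib x)).2

/-- Complete intersection points of a scheme over a field have syntomic neighbourhoods. -/
theorem exists_syntomic_nhd {k : Type u} [Field k] {X : Scheme.{u}} (p : X ⟶ Spec (CommRingCat.of k))
    [LocallyOfFiniteType p] (x : X) (h : Pi1.IsCompleteIntersection (X.presheaf.stalk x)) :
    ∃ W : X.Opens, x ∈ W ∧ Synt.IsSyntomicMor (W.ι ≫ p) := by
  obtain ⟨U, hU, hxU, -⟩ := exists_isAffineOpen_mem_and_subset (U := ⊤) (show x ∈ (⊤ : X.Opens) from trivial)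
  letI := (TransLib.structMap p U).hom.toAlgebra
  letI := (TransLib.structMap p ⊤ ≫ X.presheaf.germ ⊤ x trivial).hom.toAlgebra
  haveI : Algebra.FiniteType k Γ(X, U) := by
    have h : (p.appLE ⊤ U le_top).hom.FiniteType :=
      HasRingHomProperty.appLE (P := @LocallyOfFiniteType) p inferInstance ⟨⊤, isAffineOpen_top _⟩ ⟨U, hU⟩ le_top
    show (TransLib.structMap p U).hom.FiniteType
    rw [CommRingCat.hom_comp, RingHom.finiteType_respectsIso.cancel_left_isIso]
    exact h
  obtain ⟨e⟩ := TransLib.exists_stalk_equiv p ⟨U, hU⟩ x hxU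
  obtain ⟨g, hg, hCI⟩ := TransLib.exists_globalCI_of_isCIOver (hU.primeIdealOf ⟨x, hxU⟩).asIdeal
    (TransLib.isCIOver_congr e.symm ((ci_iff_isCIOver p x).1 h))
  obtain ⟨W, hxW, hW⟩ := TransLib.exists_globalCI_basicOpen p ⟨U, hU⟩ x hxU g hg hCI
  letI := (TransLib.structMap p W.1).hom.toAlgebra
  refine ⟨W.1, hxW, (TransLib.isSyntomicMor_iff _).2 ?_⟩
  haveI : IsAffine W.1 := W.2
  rw [HasRingHomProperty.iff_of_isAffine (P := TransLib.SyntMor), Scheme.Hom.comp_appTop, CommRingCat.hom_comp]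
  have h1 := (TransLib.syntHom_structMap_iff p W.1).1 (TransLib.isSyntomic_of_isGlobalCI hW)
  rw [Scheme.Hom.appLE, CommRingCat.hom_comp] at h1
  have e2 : (W.1.ι.appTop).hom = W.1.topIso.inv.hom.comp (X.presheaf.map (homOfLE (le_top : W.1 ≤ ⊤)).op).hom := by
    rw [← CommRingCat.hom_comp, Scheme.Opens.ι_appTop]
    show _ = (X.presheaf.map _ ≫ X.presheaf.map _).hom
    rw [← X.presheaf.map_comp]
    rfl
  rw [e2, RingHom.comp_assoc]
  exact (TransLib.syntHom_isLocal.respectsIso).1 _ (W.1.topIso.symm.commRingCatIsoToRingEquiv) h1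

theorem ci_stalk_baseChange_field {k k' : Type u} [Field k] [Field k'] {X : Scheme.{u}}
    (f : X ⟶ Spec (CommRingCat.of k)) [LocallyOfFiniteType f]
    (a : Spec (CommRingCat.of k') ⟶ Spec (CommRingCat.of k)) [Flat a] (x' : ↥(pullback f a)) :
    Pi1.IsCompleteIntersection (X.presheaf.stalk ((pullback.fst f a).base x')) ↔
      Pi1.IsCompleteIntersection ((pullback f a).presheaf.stalk x') := by
  constructor
  · intro h
    obtain ⟨W, hxW, hW⟩ := exists_syntomic_nhd f _ h
    let q : pullback (W.ι ≫ f) a ⟶ pullback f a :=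
      pullback.map (W.ι ≫ f) a f a W.ι (𝟙 _) (𝟙 _) (by simp) (by simp)
    have hS := (TransLib.isSyntomicMor_iff (pullback.snd (W.ι ≫ f) a)).2
      (MorphismProperty.pullback_snd (P := TransLib.SyntMor) _ _ ((TransLib.isSyntomicMor_iff _).1 hW))
    obtain ⟨z, hz⟩ : x' ∈ Set.range q := by
      rw [Scheme.Pullback.range_map]
      refine ⟨?_, ⟨_, rfl⟩⟩
      rw [Set.mem_preimage, Scheme.Opens.range_ι]
      exact hxW
    haveI : LocallyOfFiniteType (pullback.snd (W.ι ≫ f) a) := MorphismProperty.pullback_snd _ _ inferInstance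
    have h2 := ((TransLib.tfae_syntomic_field (k := k') (pullback.snd (W.ι ≫ f) a)).out 0 2).1 hS
    have h3 := (ci_iff_isCIOver (k := k') (pullback.snd (W.ι ≫ f) a) z).2 (h2 z)
    subst hz
    haveI : IsOpenImmersion q := inferInstance
    haveI : IsNoetherianRing ((pullback (W.ι ≫ f) a).presheaf.stalk z) := by
      haveI := LocallyOfFiniteType.isLocallyNoetherian (pullback.snd (W.ι ≫ f) a)
      infer_instance
    exact (isCompleteIntersection_congr_iff (asIso (q.stalkMap z)).commRingCatIsoToRingEquiv.symm).1 h3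
  · intro h
    haveI : LocallyOfFiniteType (pullback.snd f a) := MorphismProperty.pullback_snd _ _ inferInstance
    haveI := LocallyOfFiniteType.isLocallyNoetherian (pullback.snd f a)
    haveI := LocallyOfFiniteType.isLocallyNoetherian f
    letI := ((pullback.fst f a).stalkMap x').hom.toAlgebra
    haveI : Module.Flat (X.presheaf.stalk (pullback.fst f a x')) ((pullback f a).presheaf.stalk x') :=
      Flat.stalkMap (pullback.fst f a) x'
    haveI : IsLocalHom (algebraMap (X.presheaf.stalk (pullback.fst f a x')) ((pullback f a).presheaf.stalk x')) :=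
      inferInstanceAs (IsLocalHom ((pullback.fst f a).stalkMap x').hom)
    haveI := isLocalRing_quotient (ne_top_of_le_ne_top (maximalIdeal.isMaximal _).ne_top
      (((local_hom_TFAE (algebraMap (X.presheaf.stalk (pullback.fst f a x')) ((pullback f a).presheaf.stalk x'))).out 0 2).1 ‹_›))
    exact (isCompleteIntersection_iff_of_flat.1 h).1

end CIRingLib
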