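import Groth.Agent.CIRingLib.FieldExt
import Groth.Agent.CIRingLib.MorApps
import Groth.Agent.TransLib.PointNhd
import Mathlib

/-!
# The complete intersection locus of a flat morphism is open
-/

set_option autoImplicit false
set_option linter.style.haveILetI false

universe u

open CategoryTheory CategoryTheory.Limits AlgebraicGeometry IsLocalRing TensorProduct

namespace CIRingLib

theorem isCIOver_of_ci {k : Type u} [Field k] {T : Type u} [CommRing T] [IsLocalRing T] [Algebra k T]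
    [Algebra.EssFiniteType k T] (h : Pi1.IsCompleteIntersection T) : Synt.IsCIOver k T := by
  haveI : IsNoetherianRing T := Algebra.EssFiniteType.isNoetherianRing k _
  obtain ⟨R, _, _, _, π, hR, hπ⟩ := TransLib.exists_regular_surjection (k := k) T
  exact (TransLib.isCIOver_iff π hπ).2 ((isCompleteIntersection_iff π.toRingHom hπ).1 h)

theorem isSyntomicAt_of_ciFib {X S : Scheme.{u}} (f : X ⟶ S) [Flat f] [LocallyOfFinitePresentation f] (x : X)
    (h : CIFib (f.stalkMap x).hom) : Synt.IsSyntomicAt f x := by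
  obtain ⟨V, hV, hxV, -⟩ := exists_isAffineOpen_mem_and_subset (x := f x) (U := ⊤) trivial
  obtain ⟨U, hU, hxU, hUV⟩ := exists_isAffineOpen_mem_and_subset (x := x) (U := f ⁻¹ᵁ V) hxV
  have hUV' : U ≤ f ⁻¹ᵁ V := hUV
  let A := Γ(S, V)
  let B := Γ(X, U)
  letI := (f.appLE V U hUV').hom.toAlgebra
  haveI : Module.Flat Γ(S, V) Γ(X, U) := f.flat_appLE hV hU hUV'
  haveI : Algebra.FinitePresentation Γ(S, V) Γ(X, U) := f.finitePresentation_appLE hV hU hUV'
  let q := (hU.primeIdealOf ⟨x, hxU⟩).asIdeal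
  letI : Algebra Γ(X, U) (X.presheaf.stalk x) := TopCat.Presheaf.algebra_section_stalk X.presheaf ⟨x, hxU⟩
  haveI := hU.isLocalization_stalk ⟨x, hxU⟩
  letI : Algebra Γ(S, V) (S.presheaf.stalk (f x)) := TopCat.Presheaf.algebra_section_stalk S.presheaf ⟨f x, hxV⟩
  haveI := hV.isLocalization_stalk ⟨f x, hxV⟩
  let ε := IsLocalization.algEquiv q.primeCompl (Localization.AtPrime q) (X.presheaf.stalk x)
  have hcomm : ∀ a, (f.stalkMap x).hom (algebraMap Γ(S, V) (S.presheaf.stalk (f x)) a) =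
      algebraMap Γ(X, U) (X.presheaf.stalk x) (algebraMap Γ(S, V) Γ(X, U) a) := fun a =>
    (Scheme.Hom.germ_stalkMap_apply f V x hxV a).trans
      (TopCat.Presheaf.germ_res_apply X.presheaf (homOfLE hUV') x hxU _).symm
  let p : Ideal Γ(S, V) := q.comap (algebraMap Γ(S, V) Γ(X, U))
  have hp : p = (hV.primeIdealOf ⟨f x, hxV⟩).asIdeal := by
    refine Ideal.ext fun a => ?_
    rw [Ideal.mem_comap, ← IsLocalization.AtPrime.to_map_mem_maximal_iff (X.presheaf.stalk x) q,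
      ← IsLocalization.AtPrime.to_map_mem_maximal_iff (S.presheaf.stalk (f x)) (hV.primeIdealOf ⟨f x, hxV⟩).asIdeal,
      ← hcomm]
    exact ⟨fun ha => by
      by_contra hna
      exact (mem_maximalIdeal _).1 ha ((IsLocalRing.notMem_maximalIdeal.1 hna).map (f.stalkMap x).hom),
      fun ha => map_nonunit (f.stalkMap x).hom _ ha⟩
  have hmap : (p.map (algebraMap Γ(S, V) (Localization.AtPrime q))).map ε.toRingEquiv.toRingHom =
      (maximalIdeal (S.presheaf.stalk (f x))).map (f.stalkMap x).hom := by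
    rw [← IsLocalization.AtPrime.map_eq_maximalIdeal (hV.primeIdealOf ⟨f x, hxV⟩).asIdeal (S.presheaf.stalk (f x)),
      Ideal.map_map, Ideal.map_map, hp]
    congr 1
    refine RingHom.ext fun a => ?_
    show ε (algebraMap Γ(S, V) (Localization.AtPrime q) a) = _
    rw [IsScalarTower.algebraMap_apply Γ(S, V) Γ(X, U) (Localization.AtPrime q), ε.commutes]
    exact (hcomm a).symm
  haveI : IsNoetherianRing (p.Fiber Γ(X, U)) := Algebra.FiniteType.isNoetherianRing p.ResidueField _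
  let Q₀ := PrimeSpectrum.preimageHomeomorphFiber Γ(S, V) Γ(X, U) ⟨p, inferInstance⟩ ⟨hU.primeIdealOf ⟨x, hxU⟩, rfl⟩
  let Q : Ideal (p.Fiber Γ(X, U)) := Q₀.asIdeal
  haveI : Q.IsPrime := Q₀.isPrime
  have hQ : Q.comap (Algebra.TensorProduct.includeRight : Γ(X, U) →ₐ[Γ(S, V)] p.Fiber Γ(X, U)).toRingHom = q := by
    have e := (PrimeSpectrum.preimageHomeomorphFiber Γ(S, V) Γ(X, U) ⟨p, inferInstance⟩).symm_apply_apply
      ⟨hU.primeIdealOf ⟨x, hxU⟩, rfl⟩
    exact congrArg (fun z => (Subtype.val z).asIdeal) e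
  obtain ⟨_, hci⟩ := h
  have hCI : Pi1.IsCompleteIntersection (Localization.AtPrime Q) := by
    haveI : IsNoetherianRing (Localization.AtPrime Q) := IsLocalization.isNoetherianRing Q.primeCompl _ inferInstance
    have key : ∀ (r : Ideal Γ(X, U)) [r.IsPrime], r = q →
        Nonempty ((Localization.AtPrime r ⧸ (p.map (algebraMap Γ(S, V) Γ(X, U))).map (algebraMap Γ(X, U) (Localization.AtPrime r))) ≃+*
          (X.presheaf.stalk x ⧸ (maximalIdeal (S.presheaf.stalk (f x))).map (f.stalkMap x).hom)) := by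
      intro r _ hr
      subst hr
      refine ⟨Ideal.quotientEquiv _ _ ε.toRingEquiv ?_⟩
      rw [← hmap]
      congr 1
      rw [Ideal.map_map]
      congr 1
    obtain ⟨e⟩ := key _ hQ
    exact (isCompleteIntersection_congr_iff ((Ideal.Fiber.algEquivAux₂ p Q).toRingEquiv.trans e)).2 hci
  haveI : Algebra.EssFiniteType p.ResidueField (Localization.AtPrime Q) :=
    Algebra.EssFiniteType.comp p.ResidueField (p.Fiber Γ(X, U)) _
  haveI : Algebra.FinitePresentation Γ(S, V) (Localization.Away (1 : Γ(X, U))) :=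
    Algebra.FinitePresentation.trans Γ(S, V) Γ(X, U) _
  obtain ⟨g, hg, n, c, F, hF, ⟨eF⟩⟩ := TransLib.relGCI_nhd_of_local p q Q hQ 1
    (fun h1 => (inferInstance : q.IsPrime).ne_top ((Ideal.eq_top_iff_one _).2 h1)) inferInstance
    (Module.Flat.trans Γ(S, V) Γ(X, U) (Localization.AtPrime q)) (isCIOver_of_ci hCI)
  refine ⟨⟨X.basicOpen g, hU.basicOpen g⟩, ⟨V, hV⟩, (X.basicOpen_le g).trans hUV', ?_, ?_⟩
  · have e := hU.fromSpec_primeIdealOf ⟨x, hxU⟩
    change hU.fromSpec _ = x at e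
    show x ∈ X.basicOpen g
    rw [← e, ← Scheme.Hom.mem_preimage, hU.fromSpec_preimage_basicOpen]
    exact (PrimeSpectrum.mem_basicOpen _ _).2 hg
  · haveI := hU.isLocalization_basicOpen g
    have hs := TransLib.isSyntomic_congr eF.symm (TransLib.isSyntomic_relGCIRing hF)
    let e1 := IsLocalization.algEquiv (Submonoid.powers g) (Localization.Away g) Γ(X, X.basicOpen g)
    letI := (f.appLE V (X.basicOpen g) ((X.basicOpen_le g).trans hUV')).hom.toAlgebra
    refine TransLib.isSyntomic_congr (AlgEquiv.ofRingEquiv (f := e1.toRingEquiv) fun a => ?_) hs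
    show e1 (algebraMap Γ(S, V) (Localization.Away g) a) = (f.appLE V (X.basicOpen g) _).hom a
    rw [IsScalarTower.algebraMap_apply Γ(S, V) Γ(X, U) (Localization.Away g), e1.commutes,
      ← Scheme.Hom.appLE_map f hUV' (homOfLE (X.basicOpen_le g)).op]
    rfl

theorem ciFib_of_isSyntomicAt {X S : Scheme.{u}} (f : X ⟶ S) [LocallyOfFiniteType f] (x : X)
    (h : Synt.IsSyntomicAt f x) : CIFib (f.stalkMap x).hom := by
  obtain ⟨⟨U, hU⟩, ⟨V, hV⟩, e, hxU, hs⟩ := h
  have h1 : Synt.IsSyntomicMor (U.ι ≫ f) := fun y =>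
    ⟨⟨U.ι ⁻¹ᵁ U, by rw [Scheme.Opens.ι_preimage_self]; haveI : IsAffine _ := hU; exact isAffineOpen_top _⟩, ⟨V, hV⟩,
      by rw [Scheme.Hom.comp_preimage]; exact U.ι.preimage_mono e, y.2, by
        have hle : U.ι ⁻¹ᵁ U ≤ U.ι ⁻¹ᵁ (f ⁻¹ᵁ V) := U.ι.preimage_mono e
        show TransLib.SyntHom ((U.ι ≫ f).appLE V (U.ι ⁻¹ᵁ U) _).hom
        rw [← Scheme.Hom.appLE_comp_appLE U.ι f V U (U.ι ⁻¹ᵁ U) e le_rfl, CommRingCat.hom_comp]
        haveI : IsIso (U.ι.appLE U (U.ι ⁻¹ᵁ U) le_rfl) := by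
          rw [← Scheme.Hom.app_eq_appLE]
          refine U.ι.isIso_app U ?_
          rw [Scheme.Opens.opensRange_ι]
        exact TransLib.syntHom_isLocal.respectsIso.1 _ (asIso (U.ι.appLE U (U.ι ⁻¹ᵁ U) le_rfl)).commRingCatIsoToRingEquiv hs⟩
  obtain ⟨-, -, hfib⟩ := (isCIMorphism_iff _).1 ((isSyntomicMor_iff_isCIMorphism _).1 h1)
  obtain ⟨hl, hc⟩ := hfib ⟨x, hxU⟩
  have hcomp : ((U.ι ≫ f).stalkMap ⟨x, hxU⟩).hom = (U.ι.stalkMap ⟨x, hxU⟩).hom.comp (f.stalkMap x).hom :=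
    congrArg CommRingCat.Hom.hom (Scheme.Hom.stalkMap_comp U.ι f ⟨x, hxU⟩)
  let ε := (asIso (U.ι.stalkMap ⟨x, hxU⟩)).commRingCatIsoToRingEquiv
  haveI : IsLocallyNoetherian (f.fiber (f x)) := by
    haveI := UOpenLib.lft_fiberToSpec f (f x)
    exact LocallyOfFiniteType.isLocallyNoetherian (f.fiberToSpecResidueField (f x))
  haveI : IsNoetherianRing (X.presheaf.stalk x ⧸ (maximalIdeal (S.presheaf.stalk (f x))).map (f.stalkMap x).hom) :=
    GorLib.isNoetherianRing_fibre f x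
  let e' : (X.presheaf.stalk x ⧸ (maximalIdeal (S.presheaf.stalk (f x))).map (f.stalkMap x).hom) ≃+*
      (U.toScheme.presheaf.stalk ⟨x, hxU⟩ ⧸ (maximalIdeal (S.presheaf.stalk (f x))).map ((U.ι ≫ f).stalkMap ⟨x, hxU⟩).hom) :=
    Ideal.quotientEquiv _ _ ε (by
      rw [hcomp]
      exact (Ideal.map_map _ _).symm)
  haveI : IsLocalRing (U.toScheme.presheaf.stalk ⟨x, hxU⟩ ⧸
      (maximalIdeal (S.presheaf.stalk (f x))).map ((U.ι ≫ f).stalkMap ⟨x, hxU⟩).hom) := hl
  haveI := e'.symm.isLocalRing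
  exact ⟨‹_›, (isCompleteIntersection_congr_iff e').2 hc⟩

theorem isOpen_relCI_locus {X S : Scheme.{u}} (f : X ⟶ S) [Flat f] [LocallyOfFinitePresentation f] :
    IsOpen {x : ↥X | Pi1.IsCompleteIntersection (CInt.fiberStalk f x)} := by
  have h : {x : ↥X | Pi1.IsCompleteIntersection (CInt.fiberStalk f x)} = {x | Synt.IsSyntomicAt f x} :=
    Set.ext fun x => ⟨fun h => isSyntomicAt_of_ciFib f x ((ci_fibre_stalk_iff f _ (f.asFiber x) x (f.fiberι_asFiber x)).1 h),
      fun h => (ci_fibre_stalk_iff f _ (f.asFiber x) x (f.fiberι_asFiber x)).2 (ciFib_of_isSyntomicAt f x h)⟩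
  rw [h, isOpen_iff_forall_mem_open]
  rintro x ⟨U, V, e, hx, hs⟩
  exact ⟨U.1, fun y hy => ⟨U, V, e, hy, hs⟩, U.1.isOpen, hx⟩

end CIRingLib
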