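import Groth.Agent.CIRingLib.Localization
import Groth.Agent.CMFlatLib.BaseChangeScheme
import Groth.Agent.KoszAtLib.Basic
import Groth.Agent.KoszAtLib.PrecompMor
import Groth.Agent.TransLib.SyntField
import Groth.Agent.TransLib.CIEquiv
import Groth.Agent.UOpenLib.FibreDim
import Groth.Prelude.Def_CInt
import Mathlib

/-!
# Morphisms with complete intersection fibres
-/

set_option autoImplicit false
set_option linter.style.haveILetI false

universe u

open CategoryTheory CategoryTheory.Limits AlgebraicGeometry IsLocalRing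

namespace CIRingLib

/-- The closed fibre of a local map is a complete intersection. -/
def CIFib {A B : Type u} [CommRing A] [IsLocalRing A] [CommRing B] (f : A →+* B) : Prop :=
  ∃ _ : IsLocalRing (B ⧸ (maximalIdeal A).map f), Pi1.IsCompleteIntersection (B ⧸ (maximalIdeal A).map f)

theorem isCompleteIntersection_congr_iff {A A' : Type u} [CommRing A] [CommRing A'] [IsLocalRing A] [IsLocalRing A']
    [IsNoetherianRing A] (e : A ≃+* A') : Pi1.IsCompleteIntersection A ↔ Pi1.IsCompleteIntersection A' :=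
  haveI : IsNoetherianRing A' := isNoetherianRing_of_ringEquiv A e
  ⟨isCompleteIntersection_congr e, isCompleteIntersection_congr e.symm⟩

/-- Complete intersection fibres along a composite of local maps, the second flat. -/
theorem ciFib_comp {A B C : Type u} [CommRing A] [CommRing B] [CommRing C] [IsLocalRing A] [IsLocalRing B]
    [IsLocalRing C] (f : A →+* B) [IsLocalHom f] (g : B →+* C) [IsLocalHom g] (hg : g.Flat)
    (hC : IsNoetherianRing (C ⧸ (maximalIdeal A).map (g.comp f))) :
    CIFib (g.comp f) ↔ CIFib f ∧ CIFib g := by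
  have hB := CMFlatLib.isNoetherianRing_fibre_of_comp f g hg hC
  letI := g.toAlgebra
  haveI : Module.Flat B C := hg
  haveI : IsLocalHom (algebraMap B C) := ‹IsLocalHom g›
  let J : Ideal B := (maximalIdeal A).map f
  have hJn : J ≤ maximalIdeal B := ((local_hom_TFAE f).out 0 2).1 ‹_›
  have hmap : J.map (algebraMap B C) = (maximalIdeal A).map (g.comp f) := Ideal.map_map f g
  have hJ : J ≠ ⊤ := ne_top_of_le_ne_top (maximalIdeal.isMaximal B).ne_top hJn
  have hgn : (maximalIdeal B).map (algebraMap B C) ≤ maximalIdeal C := ((local_hom_TFAE g).out 0 2).1 ‹_›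
  have hJ' : J.map (algebraMap B C) ≠ ⊤ :=
    ne_top_of_le_ne_top (maximalIdeal.isMaximal C).ne_top ((Ideal.map_mono hJn).trans hgn)
  haveI hl1 : IsLocalRing (B ⧸ J) := isLocalRing_quotient hJ
  haveI hl2 : IsLocalRing (C ⧸ J.map (algebraMap B C)) := isLocalRing_quotient hJ'
  haveI hl3 : IsLocalRing (C ⧸ (maximalIdeal A).map (g.comp f)) := isLocalRing_quotient (hmap ▸ hJ')
  haveI hl4 : IsLocalRing (C ⧸ (maximalIdeal B).map g) :=
    isLocalRing_quotient (ne_top_of_le_ne_top (maximalIdeal.isMaximal C).ne_top hgn)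
  haveI : IsNoetherianRing (B ⧸ J) := hB
  haveI := hC
  haveI : IsNoetherianRing (C ⧸ J.map (algebraMap B C)) :=
    isNoetherianRing_of_ringEquiv _ (Ideal.quotEquivOfEq hmap.symm)
  haveI : Module.Flat (B ⧸ J) (C ⧸ J.map (algebraMap B C)) := CatLib.flat_quotient J
  have hK : (maximalIdeal (B ⧸ J)).map (algebraMap (B ⧸ J) (C ⧸ J.map (algebraMap B C))) =
      ((maximalIdeal B).map (algebraMap B C)).map (Ideal.Quotient.mk (J.map (algebraMap B C))) := by
    rw [← map_maximalIdeal_of_surjective (Ideal.Quotient.mk J) Ideal.Quotient.mk_surjective]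
    exact (Ideal.map_map _ _).trans ((congrArg (fun φ => Ideal.map φ (maximalIdeal B))
      (RingHom.ext fun _ => rfl)).trans (Ideal.map_map (algebraMap B C) (Ideal.Quotient.mk (J.map (algebraMap B C)))).symm)
  have hKle : (maximalIdeal (B ⧸ J)).map (algebraMap (B ⧸ J) (C ⧸ J.map (algebraMap B C))) ≤
      maximalIdeal (C ⧸ J.map (algebraMap B C)) := by
    rw [hK, ← map_maximalIdeal_of_surjective (Ideal.Quotient.mk (J.map (algebraMap B C))) Ideal.Quotient.mk_surjective]
    exact Ideal.map_mono hgn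
  haveI : IsLocalHom (algebraMap (B ⧸ J) (C ⧸ J.map (algebraMap B C))) := ((local_hom_TFAE _).out 2 0).1 hKle
  haveI := isLocalRing_quotient (ne_top_of_le_ne_top (maximalIdeal.isMaximal _).ne_top hKle)
  have hav := isCompleteIntersection_iff_of_flat (A := B ⧸ J) (B := C ⧸ J.map (algebraMap B C))
  rw [isCompleteIntersection_congr_iff (Ideal.quotEquivOfEq hmap), isCompleteIntersection_congr_iff
    ((Ideal.quotEquivOfEq hK).trans (DoubleQuot.quotQuotEquivQuotOfLE (Ideal.map_mono hJn)))] at hav
  constructor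
  · rintro ⟨_, h⟩
    exact ⟨⟨hl1, (hav.1 h).1⟩, ⟨hl4, (hav.1 h).2⟩⟩
  · rintro ⟨⟨_, h1⟩, ⟨_, h2⟩⟩
    exact ⟨hl3, hav.2 ⟨h1, h2⟩⟩

section Fibre

variable {X S : Scheme.{u}} (f : X ⟶ S)

theorem ci_fibre_stalk_iff [LocallyOfFiniteType f] (s : S) (y : f.fiber s) (z : X) (h : (f.fiberι s) y = z) :
    Pi1.IsCompleteIntersection ((f.fiber s).presheaf.stalk y) ↔ CIFib (f.stalkMap z).hom := by
  subst h
  haveI := UOpenLib.lft_fiberToSpec f s
  haveI : IsLocallyNoetherian (f.fiber s) := LocallyOfFiniteType.isLocallyNoetherian (f.fiberToSpecResidueField s)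
  obtain ⟨hsurj, hker⟩ := Groth.Agent.S9501.result f s y
  let e := (RingHom.quotientKerEquivOfSurjective hsurj).symm.trans (Ideal.quotEquivOfEq hker)
  haveI hl : IsLocalRing (X.presheaf.stalk ((f.fiberι s) y) ⧸
      (maximalIdeal (S.presheaf.stalk (f ((f.fiberι s) y)))).map (f.stalkMap ((f.fiberι s) y)).hom) := e.isLocalRing
  exact ⟨fun h => ⟨hl, (isCompleteIntersection_congr_iff e).1 h⟩, fun ⟨_, h⟩ => (isCompleteIntersection_congr_iff e).2 h⟩

theorem isCIMorphism_iff : CInt.IsCIMorphism f ↔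
    Flat f ∧ LocallyOfFinitePresentation f ∧ ∀ x, CIFib (f.stalkMap x).hom := by
  refine and_congr_right fun _ => and_congr_right fun _ => forall_congr' fun x => ?_
  exact ci_fibre_stalk_iff f _ (f.asFiber x) x (f.fiberι_asFiber x)

end Fibre

theorem ci_iff_isCIOver {k : Type u} [Field k] {X : Scheme.{u}} (p : X ⟶ Spec (CommRingCat.of k))
    [LocallyOfFiniteType p] (x : X) :
    letI := (TransLib.structMap p ⊤ ≫ X.presheaf.germ ⊤ x trivial).hom.toAlgebra
    Pi1.IsCompleteIntersection (X.presheaf.stalk x) ↔ Synt.IsCIOver k (X.presheaf.stalk x) := by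
  letI := (TransLib.structMap p ⊤ ≫ X.presheaf.germ ⊤ x trivial).hom.toAlgebra
  obtain ⟨U, hU, hxU, -⟩ := exists_isAffineOpen_mem_and_subset (U := ⊤) (show x ∈ (⊤ : X.Opens) from trivial)
  letI := (TransLib.structMap p U).hom.toAlgebra
  haveI : Algebra.FiniteType k Γ(X, U) := by
    have h : (p.appLE ⊤ U le_top).hom.FiniteType :=
      HasRingHomProperty.appLE (P := @LocallyOfFiniteType) p inferInstance ⟨⊤, isAffineOpen_top _⟩ ⟨U, hU⟩ le_top
    show (TransLib.structMap p U).hom.FiniteType
    rw [CommRingCat.hom_comp, RingHom.finiteType_respectsIso.cancel_left_isIso]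
    exact h
  obtain ⟨e⟩ := TransLib.exists_stalk_equiv p ⟨U, hU⟩ x hxU
  haveI : Algebra.EssFiniteType k (Localization.AtPrime (hU.primeIdealOf ⟨x, hxU⟩).asIdeal) :=
    Algebra.EssFiniteType.comp k Γ(X, U) _
  haveI : Algebra.EssFiniteType k (X.presheaf.stalk x) :=
    Algebra.EssFiniteType.of_surjective e.toAlgHom e.surjective
  haveI : IsNoetherianRing (X.presheaf.stalk x) := Algebra.EssFiniteType.isNoetherianRing k _
  obtain ⟨R, _, _, _, π, hR, hπ⟩ := TransLib.exists_regular_surjection (k := k) (X.presheaf.stalk x)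
  rw [TransLib.isCIOver_iff π hπ, isCompleteIntersection_iff π.toRingHom hπ]

theorem isSyntomicMor_iff_isCIMorphism {X S : Scheme.{u}} (f : X ⟶ S) :
    Synt.IsSyntomicMor f ↔ CInt.IsCIMorphism f := by
  constructor
  · intro h
    obtain ⟨hfl, hl⟩ := (KoszAtLib.isSyntomicMor_iff_flat_lciMor f).1 h
    haveI : LocallyOfFinitePresentation f := KoszAtLib.lfp_of_lciMor f hl
    refine ⟨hfl, inferInstance, fun x => ?_⟩
    haveI := UOpenLib.lft_fiberToSpec f (f.base x)
    have hs : Synt.IsSyntomicMor (f.fiberToSpecResidueField (f.base x)) := (TransLib.isSyntomicMor_iff _).2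
      (MorphismProperty.pullback_snd (P := TransLib.SyntMor) _ _ ((TransLib.isSyntomicMor_iff f).1 h))
    have h3 := ((TransLib.tfae_syntomic_field (k := S.residueField (f.base x))
      (f.fiberToSpecResidueField (f.base x))).out 0 2).1 hs
    exact (ci_iff_isCIOver (k := S.residueField (f.base x)) (f.fiberToSpecResidueField (f.base x)) _).2 (h3 _)
  · intro h
    haveI := h.1
    haveI := h.2.1
    have hx := ((isCIMorphism_iff f).1 h).2.2
    refine (TransLib.isSyntomicMor_iff f).2 (TransLib.syntMor_of_fibres f fun s => ?_)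
    haveI := UOpenLib.lft_fiberToSpec f s
    refine (TransLib.isSyntomicMor_iff _).1 (((TransLib.tfae_syntomic_field (k := S.residueField s)
      (f.fiberToSpecResidueField s)).out 2 0).1 fun y => ?_)
    exact (ci_iff_isCIOver (k := S.residueField s) (f.fiberToSpecResidueField s) y).1
      ((ci_fibre_stalk_iff f s y _ rfl).2 (hx _))

/-- Both factors of a composite with complete intersection fibres, the first one flat. -/
theorem ciFib_of_comp {X Y Z : Scheme.{u}} (f : X ⟶ Y) (q : Y ⟶ Z) [LocallyOfFiniteType (f ≫ q)] (x : X)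
    (hfl : (f.stalkMap x).hom.Flat) (h : CIFib ((f ≫ q).stalkMap x).hom) :
    CIFib (f.stalkMap x).hom ∧ CIFib (q.stalkMap (f x)).hom := by
  haveI := UOpenLib.lft_fiberToSpec (f ≫ q) ((f ≫ q) x)
  haveI : IsLocallyNoetherian ((f ≫ q).fiber ((f ≫ q) x)) :=
    LocallyOfFiniteType.isLocallyNoetherian ((f ≫ q).fiberToSpecResidueField _)
  have hcomp : ((f ≫ q).stalkMap x).hom = (f.stalkMap x).hom.comp (q.stalkMap (f x)).hom :=
    congrArg CommRingCat.Hom.hom (Scheme.Hom.stalkMap_comp f q x)
  have hC := GorLib.isNoetherianRing_fibre (f ≫ q) x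
  rw [hcomp] at hC h
  exact ((ciFib_comp (q.stalkMap (f x)).hom (f.stalkMap x).hom hfl hC).1 h).symm

end CIRingLib
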