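import Groth.Agent.CohenLib.Structure
import Groth.Agent.CohenLib.PSLocal
import Groth.Agent.CatLib.Completion
import Groth.Agent.CMFlatLib.QFFlat
import Groth.Agent.S2456
import Mathlib

/-!
# Compatible Cohen presentations of a local homomorphism
-/

set_option autoImplicit false

universe u

open RingTheory.Sequence IsLocalRing

namespace CIRingLib

open CohenLib

/-- Homomorphisms out of power series into a separated ring are determined by constants and variables. -/
theorem psHom_ext {Λ : Type u} [CommRing Λ] {n : ℕ} {S : Type u} [CommRing S] (I : Ideal S) [IsHausdorff I S]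
    (φ ψ : MvPowerSeries (Fin n) Λ →+* S) (hC : ∀ c, φ (MvPowerSeries.C c) = ψ (MvPowerSeries.C c))
    (hX : ∀ i, φ (MvPowerSeries.X i) = ψ (MvPowerSeries.X i)) (hI : ∀ i, φ (MvPowerSeries.X i) ∈ I) :
    φ = ψ := by
  refine RingHom.ext fun f => sub_eq_zero.1 (IsHausdorff.haus (I := I) ‹_› _ fun N => ?_)
  rw [SModEq.sub_mem, sub_zero, smul_eq_mul, Ideal.mul_top, ← Ideal.Quotient.eq]
  have key : ∀ χ : MvPowerSeries (Fin n) Λ →+* S, (∀ i, χ (MvPowerSeries.X i) ∈ I) →
      ∀ g ∈ varsIdeal Λ n ^ N, (Ideal.Quotient.mk (I ^ N)).comp χ g = 0 := by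
    intro χ hχ g hg
    rw [RingHom.comp_apply, Ideal.Quotient.eq_zero_iff_mem]
    have h1 : (varsIdeal Λ n).map χ ≤ I := by
      rw [varsIdeal, Ideal.map_span, Ideal.span_le]
      rintro _ ⟨_, ⟨i, rfl⟩, rfl⟩
      exact hχ i
    have h2 := Ideal.mem_map_of_mem χ hg
    rw [Ideal.map_pow] at h2
    exact Ideal.pow_right_mono h1 N h2
  exact RingHom.congr_fun (ps_hom_ext ((Ideal.Quotient.mk (I ^ N)).comp φ) ((Ideal.Quotient.mk (I ^ N)).comp ψ)
    (fun c => congrArg _ (hC c)) (fun i => congrArg _ (hX i)) N (key φ hI)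
    (key ψ fun i => hX i ▸ hI i)) f

/-- A coefficient ring with its uniformizer, a natural number. -/
structure IsCoeff (Λ : Type u) [CommRing Λ] [IsLocalRing Λ] (k d : ℕ) : Prop where
  reg : IsRegularLocalRing Λ
  max : maximalIdeal Λ = Ideal.span {(k : Λ)}
  dim : ringKrullDim Λ = d
  complete : IsAdicComplete (maximalIdeal Λ) Λ

theorem isCoeff_of_cases {Λ : Type u} [CommRing Λ] [IsLocalRing Λ] {K : Type u} [Field K]
    (hc : IsAdicComplete (maximalIdeal Λ) Λ)
    (h : (IsField Λ ∧ CharZero K) ∨ (CAlg.IsCohenRing Λ ∧ ¬ CharZero K)) :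
    (CharZero K ∧ IsCoeff Λ 0 0) ∨ (¬ CharZero K ∧ ∃ p : ℕ, p.Prime ∧ IsCoeff Λ p 1) := by
  rcases h with ⟨hF, hK⟩ | ⟨⟨_, hdvr, hc', p, hp, hm⟩, hK⟩
  · refine .inl ⟨hK, ?_⟩
    letI := hF.toField
    exact ⟨inferInstance, by rw [Nat.cast_zero, maximalIdeal_eq_bot, Ideal.span_singleton_eq_bot.2 rfl],
      by rw [ringKrullDim_eq_zero_of_isField hF]; rfl, hc⟩
  · exact .inr ⟨hK, p, hp, inferInstance, hm,
      (IsPrincipalIdealRing.ringKrullDim_eq_one Λ (IsDiscreteValuationRing.not_isField Λ)), hc⟩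

section PS

variable {Λ : Type u} [CommRing Λ] [IsLocalRing Λ] {k d : ℕ}

theorem maximalIdeal_ps (h : IsCoeff Λ k d) (n : ℕ) : maximalIdeal (MvPowerSeries (Fin n) Λ) =
    Ideal.span (insert (k : MvPowerSeries (Fin n) Λ) (Set.range MvPowerSeries.X)) := by
  rw [maximalIdeal_mvPowerSeries, h.max, Ideal.map_span, Set.image_singleton, map_natCast, varsIdeal,
    ← Ideal.span_union, Set.singleton_union]

theorem complete_ps (h : IsCoeff Λ k d) (n : ℕ) :
    IsAdicComplete (maximalIdeal (MvPowerSeries (Fin n) Λ)) (MvPowerSeries (Fin n) Λ) := by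
  have := h.reg
  have := h.complete
  rw [maximalIdeal_mvPowerSeries]
  exact isAdicComplete_sup_varsIdeal Λ (maximalIdeal Λ)

theorem regular_ps (h : IsCoeff Λ k d) (n : ℕ) : IsRegularLocalRing (MvPowerSeries (Fin n) Λ) := by
  have := h.reg
  haveI : IsRegularRing Λ := CommAlgDim.isRegularRing_of_isRegularLocalRing Λ
  haveI := CommAlgDim.isRegularRing_mvPowerSeries Λ n
  haveI : IsNoetherianRing (MvPowerSeries (Fin n) Λ) := CohenLib.isNoetherianRing_mvPowerSeries (Λ := Λ) (n := n)
  exact IsRegularLocalRing.of_isRegularRing_of_isLocalRing _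

theorem le_dim_ps (h : IsCoeff Λ k d) : ∀ n : ℕ,
    ((d + n : ℕ) : WithBot ℕ∞) ≤ ringKrullDim (MvPowerSeries (Fin n) Λ)
  | 0 => by
    rw [ringKrullDim_eq_of_ringEquiv (MvPowerSeries.isEmptyEquiv (Fin 0) Λ).toRingEquiv, h.dim, add_zero]
  | n + 1 => by
    rw [ringKrullDim_eq_of_ringEquiv (MvPowerSeries.finSuccEquiv Λ n).toRingEquiv]
    refine le_trans ?_ (ringKrullDim_succ_le_ringKrullDim_powerseries (R := MvPowerSeries (Fin n) Λ))
    rw [show d + (n + 1) = d + n + 1 from rfl, Nat.cast_add, Nat.cast_one]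
    exact add_le_add_left (le_dim_ps h n) 1

end PS

/-- Compatible presentations of a local homomorphism of complete Noetherian local rings. -/
theorem exists_presentation {A B : Type u} [CommRing A] [CommRing B] [IsLocalRing A] [IsLocalRing B]
    [IsNoetherianRing A] [IsNoetherianRing B] [IsAdicComplete (maximalIdeal A) A]
    [IsAdicComplete (maximalIdeal B) B] (f : A →+* B) [IsLocalHom f] :
    ∃ (Λ Λ' : Type u) (_ : CommRing Λ) (_ : CommRing Λ') (_ : IsLocalRing Λ) (_ : IsLocalRing Λ') (n N : ℕ)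
      (ρ : MvPowerSeries (Fin n) Λ →+* A) (σ : MvPowerSeries (Fin N) Λ' →+* B)
      (τ : MvPowerSeries (Fin n) Λ →+* MvPowerSeries (Fin N) Λ'),
      ((CharZero (ResidueField A) ∧ IsField Λ ∧ IsField Λ') ∨
        (¬ CharZero (ResidueField A) ∧ CAlg.IsCohenRing Λ ∧ CAlg.IsCohenRing Λ')) ∧
      Function.Surjective ρ ∧ Function.Surjective σ ∧ σ.comp τ = f.comp ρ ∧ τ.Flat ∧ IsLocalHom τ ∧
      IsRegularLocalRing (MvPowerSeries (Fin n) Λ) ∧ IsRegularLocalRing (MvPowerSeries (Fin N) Λ') ∧
      IsRegularLocalRing (MvPowerSeries (Fin N) Λ' ⧸ (maximalIdeal (MvPowerSeries (Fin n) Λ)).map τ) := by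
  classical
  obtain ⟨Λ, _, _, g, hg, hcase, hc, _, hmap⟩ := exists_coefficient_ring A
  obtain ⟨Λ', _, _, g', hg', hcase', hc', _, hmap'⟩ := exists_coefficient_ring B
  let fbar : ResidueField A →+* ResidueField B := ResidueField.map f
  have hchar : CharZero (ResidueField A) ↔ CharZero (ResidueField B) :=
    ⟨fun h => charZero_of_injective_ringHom fbar.injective, fun h => RingHom.charZero fbar⟩
  obtain ⟨k, d, hΛ, hΛ', hEGA⟩ : ∃ k d, IsCoeff Λ k d ∧ IsCoeff Λ' k d ∧ EGA41.IsCohenRingEGA Λ := by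
    rcases isCoeff_of_cases hc hcase with ⟨hK, h⟩ | ⟨hK, p, hp, h⟩
    · rcases isCoeff_of_cases hc' hcase' with ⟨-, h'⟩ | ⟨hK', -⟩
      · refine ⟨0, 0, h, h', ?_⟩
        rcases hcase with ⟨hF, -⟩ | ⟨-, hn⟩
        · refine .inl ⟨hF, ?_⟩
          exact RingHom.charZero ((residue A).comp g)
        · exact absurd hK hn
      · exact absurd (hchar.1 hK) hK'
    · rcases isCoeff_of_cases hc' hcase' with ⟨hK', -⟩ | ⟨-, q, hq, h'⟩
      · exact absurd (hchar.2 hK') hK
      · have hpB : (p : B) ∈ maximalIdeal B := by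
          rw [← map_natCast f, ← map_natCast g]
          have h1 : g (p : Λ) ∈ maximalIdeal A :=
            hmap (Ideal.mem_map_of_mem g (h.max.symm ▸ Ideal.mem_span_singleton_self _))
          exact fun hu => h1 (isUnit_of_map_unit f _ hu)
        have hqB : (q : B) ∈ maximalIdeal B := by
          rw [← map_natCast g']
          exact hmap' (Ideal.mem_map_of_mem g' (h'.max.symm ▸ Ideal.mem_span_singleton_self _))
        have hpq : p = q := by
          by_contra hne
          have hcop : IsCoprime (p : ℤ) (q : ℤ) :=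
            Nat.isCoprime_iff_coprime.2 ((Nat.coprime_primes hp hq).2 hne)
          obtain ⟨a, b, hab⟩ := hcop
          have h1 : ((a * p + b * q : ℤ) : B) ∈ maximalIdeal B := by
            push_cast
            exact add_mem (Ideal.mul_mem_left _ _ hpB) (Ideal.mul_mem_left _ _ hqB)
          rw [hab, Int.cast_one] at h1
          exact (maximalIdeal.isMaximal B).ne_top ((Ideal.eq_top_iff_one _).2 h1)
        subst hpq
        rcases hcase with ⟨-, hK2⟩ | ⟨hC, -⟩
        · exact absurd hK2 hK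
        · exact ⟨p, 1, h, h', .inr hC⟩
  have hk : ∀ {X : Type u} [CommRing X] (φ : Λ →+* X), (maximalIdeal Λ).map φ = Ideal.span {(k : X)} := fun φ => by
    rw [hΛ.max, Ideal.map_span, Set.image_singleton, map_natCast]
  obtain ⟨n, x, hx⟩ := Submodule.fg_iff_exists_fin_generating_family.1 (IsNoetherian.noetherian (maximalIdeal A))
  obtain ⟨m, z, hz⟩ := Submodule.fg_iff_exists_fin_generating_family.1 (IsNoetherian.noetherian (maximalIdeal B))
  have hxm : ∀ i, x i ∈ maximalIdeal A := fun i => hx ▸ Submodule.subset_span ⟨i, rfl⟩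
  have hzm : ∀ i, z i ∈ maximalIdeal B := fun i => hz ▸ Submodule.subset_span ⟨i, rfl⟩
  have hfx : ∀ i, f (x i) ∈ maximalIdeal B := fun i hu => hxm i (isUnit_of_map_unit f _ hu)
  haveI := hΛ.complete
  haveI := hΛ'.complete
  haveI := hΛ.reg
  haveI := hΛ'.reg
  -- surjectivity criterion
  have surj : ∀ {L : Type u} [CommRing L] [IsLocalRing L] {X : Type u} [CommRing X] [IsLocalRing X]
      [IsAdicComplete (maximalIdeal X) X] (r : ℕ) (hL : IsCoeff L k d) (γ : L →+* X)
      (_ : Function.Surjective ((residue X).comp γ)) (_ : (maximalIdeal L).map γ ≤ maximalIdeal X)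
      (w : Fin r → X) (hw : ∀ i, w i ∈ maximalIdeal X),
      maximalIdeal X ≤ Ideal.span (Set.range w) → Function.Surjective (psHom (maximalIdeal X) γ w hw) := by
    intro L _ _ X _ _ _ r hL γ hγ hγm w hw hwtop
    haveI := hL.reg
    haveI := hL.complete
    have := isAdicComplete_sup_varsIdeal (n := r) L (maximalIdeal L)
    refine surjective_of_complete (maximalIdeal X)
      ((maximalIdeal L).map MvPowerSeries.C ⊔ varsIdeal L r) _ ?_ fun b => ?_
    · rw [Ideal.map_sup, Ideal.map_map, varsIdeal, Ideal.map_span, ← Set.range_comp,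
        show (psHom (maximalIdeal X) γ w hw).comp MvPowerSeries.C = γ from
          RingHom.ext fun c => psHom_C _ _ _ hw c,
        show (psHom (maximalIdeal X) γ w hw) ∘ MvPowerSeries.X = w from
          funext fun i => psHom_X _ _ _ hw i]
      exact le_antisymm (sup_le hγm (Ideal.span_le.2 (by rintro _ ⟨i, rfl⟩; exact hw i))) (hwtop.trans le_sup_right)
    · obtain ⟨c, hc⟩ := hγ (residue X b)
      refine ⟨MvPowerSeries.C c, ?_⟩
      rw [psHom_C, ← residue_eq_zero_iff, map_sub, ← hc, RingHom.comp_apply, sub_self]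
  let ρ := psHom (maximalIdeal A) g x hxm
  have hρ : Function.Surjective ρ := surj n hΛ g hg hmap x hxm hx.ge
  let σP := psHom (maximalIdeal B) g' z hzm
  have hσP : Function.Surjective σP := surj m hΛ' g' hg' hmap' z hzm hz.ge
  haveI := regular_ps hΛ' m
  haveI := complete_ps hΛ' m
  -- lift the coefficient map
  obtain ⟨v, hvloc, hv⟩ : ∃ v : Λ →+* MvPowerSeries (Fin m) Λ', IsLocalHom v ∧ σP.comp v = f.comp g := by
    haveI : IsLocalRing (MvPowerSeries (Fin m) Λ' ⧸ RingHom.ker σP) :=
      (RingHom.quotientKerEquivOfSurjective hσP).symm.isLocalRing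
    let e := RingHom.quotientKerEquivOfSurjective hσP
    let w : Λ →+* MvPowerSeries (Fin m) Λ' ⧸ RingHom.ker σP := e.symm.toRingHom.comp (f.comp g)
    haveI : IsLocalHom w := ⟨fun a ha => by
      by_contra hna
      have h1 : f (g a) ∈ maximalIdeal B := by
        have h2 : g a ∈ maximalIdeal A := hmap (Ideal.mem_map_of_mem g hna)
        exact fun hu => h2 (isUnit_of_map_unit f _ hu)
      have h3 := ha.map e.toRingHom
      simp only [w, RingHom.comp_apply, RingEquiv.toRingHom_eq_coe, RingEquiv.coe_toRingHom,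
        RingEquiv.apply_symm_apply] at h3
      exact h1 h3⟩
    obtain ⟨v, hv, hve⟩ := Groth.Agent.S2456.result hEGA (RingHom.ker σP) (RingHom.ker_ne_top σP) w
    refine ⟨v, hv, RingHom.ext fun a => ?_⟩
    have h4 := congrArg e (RingHom.congr_fun hve a)
    simp only [w, RingHom.comp_apply, RingEquiv.toRingHom_eq_coe, RingEquiv.coe_toRingHom,
      RingEquiv.apply_symm_apply] at h4
    exact h4
  haveI := regular_ps hΛ' (m + n)
  haveI := complete_ps hΛ' (m + n)
  haveI := regular_ps hΛ n
  let S := MvPowerSeries (Fin (m + n)) Λ'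
  let R := MvPowerSeries (Fin n) Λ
  have hX : ∀ i : Fin (m + n), (MvPowerSeries.X i : S) ∈ maximalIdeal S := fun i => by
    rw [maximalIdeal_ps hΛ']; exact Ideal.subset_span (Or.inr ⟨i, rfl⟩)
  let ι : MvPowerSeries (Fin m) Λ' →+* S := psHom (maximalIdeal S) MvPowerSeries.C
    (fun i => MvPowerSeries.X (Fin.castAdd n i)) fun i => hX _
  let τ : R →+* S := psHom (maximalIdeal S) (ι.comp v) (fun i => MvPowerSeries.X (Fin.natAdd m i)) fun i => hX _
  let y : Fin (m + n) → B := Fin.append z fun i => f (x i)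
  have hy : ∀ i, y i ∈ maximalIdeal B := fun i => by
    refine Fin.addCases (fun i => ?_) (fun i => ?_) i
    · simp only [y, Fin.append_left]; exact hzm i
    · simp only [y, Fin.append_right]; exact hfx i
  let σ := psHom (maximalIdeal B) g' y hy
  have hσ : Function.Surjective σ := surj (m + n) hΛ' g' hg' hmap' y hy (hz.ge.trans (Ideal.span_mono (by
    rintro _ ⟨i, rfl⟩; exact ⟨Fin.castAdd n i, by simp [y]⟩)))
  have hσι : σ.comp ι = σP := by
    refine psHom_ext (maximalIdeal B) _ _ (fun c => ?_) (fun i => ?_) fun i => ?_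
    · simp only [RingHom.comp_apply, ι, σ, σP, psHom_C]
      exact psHom_C _ _ _ hy c
    · simp only [RingHom.comp_apply, ι, σ, σP, psHom_X, y, Fin.append_left]
    · simp only [RingHom.comp_apply, ι, σ, psHom_X, y, Fin.append_left]; exact hzm i
  have hcomp : σ.comp τ = f.comp ρ := by
    refine psHom_ext (maximalIdeal B) _ _ (fun c => ?_) (fun i => ?_) fun i => ?_
    · simp only [RingHom.comp_apply, τ, ρ, psHom_C]
      rw [← RingHom.comp_apply σ ι, hσι]
      exact RingHom.congr_fun hv c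
    · simp only [RingHom.comp_apply, τ, ρ, σ, psHom_X, y, Fin.append_right]
    · simp only [RingHom.comp_apply, τ, σ, psHom_X, y, Fin.append_right]; exact hfx i
  have hτm : (maximalIdeal R).map τ =
      Ideal.span (insert (k : S) (Set.range fun i : Fin n => MvPowerSeries.X (Fin.natAdd m i))) := by
    rw [maximalIdeal_ps hΛ, Ideal.map_span, Set.image_insert_eq, map_natCast, ← Set.range_comp]
    congr 3
    funext i
    exact psHom_X _ _ _ (fun i => hX _) i
  have hτle : (maximalIdeal R).map τ ≤ maximalIdeal S := by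
    rw [hτm, maximalIdeal_ps hΛ']
    refine Ideal.span_mono (Set.insert_subset_insert ?_)
    rintro _ ⟨i, rfl⟩
    exact ⟨_, rfl⟩
  have hτloc : IsLocalHom τ := ((local_hom_TFAE τ).out 2 0).1 hτle
  let Q := (maximalIdeal R).map τ
  haveI : Nontrivial (S ⧸ Q) := Ideal.Quotient.nontrivial_iff.2
    fun h => (maximalIdeal.isMaximal S).ne_top (top_le_iff.1 (h ▸ hτle))
  haveI : IsLocalRing (S ⧸ Q) := IsLocalRing.of_surjective' (Ideal.Quotient.mk Q) Ideal.Quotient.mk_surjective
  -- dimensions
  have hgenQ : maximalIdeal (S ⧸ Q) =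
      Ideal.span (Set.range fun i : Fin m => Ideal.Quotient.mk Q (MvPowerSeries.X (Fin.castAdd n i))) := by
    rw [← IsLocalRing.map_maximalIdeal_of_surjective (Ideal.Quotient.mk Q) Ideal.Quotient.mk_surjective,
      maximalIdeal_ps hΛ', Ideal.map_span]
    refine le_antisymm (Ideal.span_le.2 ?_) (Ideal.span_mono ?_)
    · rintro _ ⟨s, hs, rfl⟩
      rcases hs with rfl | ⟨i, rfl⟩
      · rw [show Ideal.Quotient.mk Q ((k : S)) = 0 from Ideal.Quotient.eq_zero_iff_mem.2
          (hτm.ge (Ideal.subset_span (Or.inl rfl)))]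
        exact zero_mem _
      · refine Fin.addCases (fun i => ?_) (fun i => ?_) i
        · exact Ideal.subset_span ⟨i, rfl⟩
        · rw [show Ideal.Quotient.mk Q (MvPowerSeries.X (Fin.natAdd m i) : S) = 0 from
            Ideal.Quotient.eq_zero_iff_mem.2 (hτm.ge (Ideal.subset_span (Or.inr ⟨i, rfl⟩)))]
          exact zero_mem _
    · rintro _ ⟨i, rfl⟩
      exact ⟨_, Or.inr ⟨_, rfl⟩, rfl⟩
  have hQm : (maximalIdeal (S ⧸ Q)).spanFinrank ≤ m := by
    rw [hgenQ]
    refine (Submodule.spanFinrank_span_le_ncard_of_finite (Set.finite_range _)).trans ?_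
    rw [← Set.image_univ]
    exact (Set.ncard_image_le (Set.toFinite _)).trans (by simp)
  have hRn : ringKrullDim R = ((d + n : ℕ) : WithBot ℕ∞) := by
    refine le_antisymm ?_ (le_dim_ps hΛ n)
    rw [← IsRegularLocalRing.spanFinrank_maximalIdeal (R := R), Nat.cast_le, maximalIdeal_ps hΛ]
    rcases eq_or_ne d 0 with rfl | hd
    · have h0 : maximalIdeal Λ = ⊥ := by
        rw [← Submodule.spanFinrank_eq_zero_iff_eq_bot (IsNoetherian.noetherian _)]
        exact_mod_cast (IsRegularLocalRing.spanFinrank_maximalIdeal (R := Λ)).trans hΛ.dim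
      have hk0 : (k : R) = 0 := by
        have h1 : (k : Λ) = 0 := by rw [← Ideal.span_singleton_eq_bot, ← hΛ.max, h0]
        rw [← map_natCast (MvPowerSeries.C : Λ →+* R), h1, map_zero]
      rw [hk0, Ideal.span_insert_zero]
      refine (Submodule.spanFinrank_span_le_ncard_of_finite (Set.finite_range _)).trans ?_
      rw [← Set.image_univ]
      exact (Set.ncard_image_le (Set.toFinite _)).trans (by simp)
    · refine (Submodule.spanFinrank_span_le_ncard_of_finite ((Set.finite_range _).insert _)).trans ?_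
      refine (Set.ncard_insert_le _ _).trans ?_
      have : (Set.range (MvPowerSeries.X : Fin n → R)).ncard ≤ n := by
        rw [← Set.image_univ]
        exact (Set.ncard_image_le (Set.toFinite _)).trans (by simp)
      omega
  have hfib : ringKrullDim S ≤ ringKrullDim R + ringKrullDim (S ⧸ Q) := by
    have h1 := ringKrullDim_le_ringKrullDim_quotient_add_spanFinrank Q
      ((IsLocalRing.le_maximalIdeal fun h => (maximalIdeal.isMaximal S).ne_top (top_le_iff.1 (h ▸ hτle))).trans
        (IsLocalRing.ringJacobson_eq_maximalIdeal S).ge)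
    refine h1.trans ?_
    rw [add_comm]
    refine add_le_add ?_ le_rfl
    rw [← IsRegularLocalRing.spanFinrank_maximalIdeal (R := R)]
    refine Nat.cast_le.2 ?_
    have hfg : (maximalIdeal R).FG := IsNoetherian.noetherian _
    have hfin := Submodule.FG.finite_generators hfg
    rw [← Submodule.FG.generators_ncard hfg,
      show Q = Ideal.span (τ '' Submodule.generators (maximalIdeal R)) by
        rw [← Ideal.map_span]; exact congrArg (Ideal.map τ) (Submodule.span_generators _).symm]
    exact (Submodule.spanFinrank_span_le_ncard_of_finite (hfin.image _)).trans (Set.ncard_image_le hfin)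
  have hS : ((d + (m + n) : ℕ) : WithBot ℕ∞) ≤ ringKrullDim S := le_dim_ps hΛ' (m + n)
  obtain ⟨e, he⟩ := CommAlgDim.exists_ringKrullDim_eq (R := S ⧸ Q)
  obtain ⟨D, hD⟩ := CommAlgDim.exists_ringKrullDim_eq (R := S)
  have hupper : ringKrullDim (S ⧸ Q) ≤ ((maximalIdeal (S ⧸ Q)).spanFinrank : WithBot ℕ∞) :=
    ringKrullDim_le_spanFinrank_maximalIdeal (S ⧸ Q)
  rw [hRn, he, hD] at hfib
  rw [hD] at hS
  rw [he] at hupper
  norm_cast at hfib hS hupper
  have hregQ : IsRegularLocalRing (S ⧸ Q) := IsRegularLocalRing.of_spanFinrank_maximalIdeal_le _ (by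
    rw [he]; norm_cast; omega)
  have hflat : τ.Flat := by
    letI := τ.toAlgebra
    haveI : IsLocalHom (algebraMap R S) := hτloc
    refine CMFlatLib.flat_of_isCM_of_dim R S (CommAlgDim.isCM_of_isRegularLocalRing S) ?_
    show ringKrullDim S = ringKrullDim R + ringKrullDim (S ⧸ Q)
    rw [hRn, he, hD]
    norm_cast
    omega
  refine ⟨Λ, Λ', inferInstance, inferInstance, inferInstance, inferInstance, n, m + n, ρ, σ, τ, ?_, hρ, hσ, hcomp,
    hflat, hτloc, inferInstance, inferInstance, hregQ⟩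
  rcases hcase with ⟨hF, hK⟩ | ⟨hC, hK⟩
  · rcases hcase' with ⟨hF', -⟩ | ⟨-, hK'⟩
    · exact .inl ⟨hK, hF, hF'⟩
    · exact absurd (hchar.1 hK) hK'
  · rcases hcase' with ⟨-, hK'⟩ | ⟨hC', -⟩
    · exact absurd (hchar.2 hK') hK
    · exact .inr ⟨hK, hC, hC'⟩

end CIRingLib
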