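import Groth.Agent.CIRingLib.Completion
import Groth.Agent.CIRingLib.Presentation
import Groth.Agent.CILib.MinGen
import Groth.Agent.DepthLib.LocalPD
import Groth.Agent.CatLib.Descent
import Mathlib

/-!
# Avramov's theorem: complete intersections along flat local homomorphisms
-/

set_option autoImplicit false
set_option linter.style.haveILetI false

universe u

open RingTheory.Sequence IsLocalRing TensorProduct

namespace CIRingLib

open TransLib (HasRegKer)

/-- An ideal is generated by a regular sequence. -/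
theorem hasRegKer_mk_iff {R : Type u} [CommRing R] (I : Ideal R) :
    HasRegKer (Ideal.Quotient.mk I) ↔ ∃ rs : List R, IsRegular R rs ∧ Ideal.ofList rs = I := by
  simp only [HasRegKer, Ideal.mk_ker]

theorem hasRegKer_iff_mk_ker {R A : Type u} [CommRing R] [CommRing A] (π : R →+* A) :
    HasRegKer π ↔ HasRegKer (Ideal.Quotient.mk (RingHom.ker π)) := by
  simp only [HasRegKer, Ideal.mk_ker]

theorem isLocalRing_quotient {R : Type u} [CommRing R] [IsLocalRing R] {I : Ideal R} (hI : I ≠ ⊤) :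
    IsLocalRing (R ⧸ I) :=
  haveI : Nontrivial (R ⧸ I) := Ideal.Quotient.nontrivial_iff.2 hI
  IsLocalRing.of_surjective' (Ideal.Quotient.mk I) Ideal.Quotient.mk_surjective

/-- The number of generators does not drop under a flat local map. -/
theorem spanFinrank_le_map {R S : Type u} [CommRing R] [CommRing S] [IsLocalRing R] [IsLocalRing S]
    [IsNoetherianRing R] [IsNoetherianRing S] [Algebra R S] [IsLocalHom (algebraMap R S)] [Module.Flat R S]
    (I : Ideal R) : I.spanFinrank ≤ (I.map (algebraMap R S)).spanFinrank := by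
  classical
  haveI : Module.FaithfullyFlat R S := Module.FaithfullyFlat.of_flat_of_isLocalHom
  obtain ⟨y, hy⟩ := exists_range_eq I
  obtain ⟨x, hx⟩ := exists_range_eq (I.map (algebraMap R S))
  have hw : Ideal.span (Set.range fun i => algebraMap R S (y i)) = I.map (algebraMap R S) := by
    rw [show (fun i => algebraMap R S (y i)) = algebraMap R S ∘ y from rfl, Set.range_comp, ← Ideal.map_span, hy]
  refine CILib.card_le_of_irredundant _ x (hw.trans hx.symm).le (hx.trans hw.symm).le fun a ha i => ?_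
  by_contra hi
  obtain ⟨m, hm⟩ : ∃ m, I.spanFinrank = m + 1 := ⟨I.spanFinrank - 1, by have := i.2; omega⟩
  let i' : Fin (m + 1) := Fin.cast hm i
  let y' : Fin m → R := fun j => y (Fin.cast hm.symm (i'.succAbove j))
  have hmem : algebraMap R S (y i) ∈ (Ideal.span (Set.range y')).map (algebraMap R S) := by
    obtain ⟨d, hd⟩ := (notMem_maximalIdeal.1 hi).exists_left_inv
    rw [← Finset.add_sum_erase _ _ (Finset.mem_univ i)] at ha
    have he : algebraMap R S (y i) = -d * ∑ j ∈ Finset.univ.erase i, a j * algebraMap R S (y j) := by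
      linear_combination d * ha - algebraMap R S (y i) * hd
    rw [he]
    refine Ideal.mul_mem_left _ _ (sum_mem fun j hj => Ideal.mul_mem_left _ _ ?_)
    obtain ⟨k, hk⟩ := Fin.exists_succAbove_eq (x := Fin.cast hm j) (y := i') (fun he => (Finset.mem_erase.1 hj).1
      (Fin.cast_injective hm he))
    refine Ideal.mem_map_of_mem _ (Ideal.subset_span ⟨k, ?_⟩)
    show y (Fin.cast hm.symm (i'.succAbove k)) = y j
    rw [hk]; rfl
  have h1 : y i ∈ Ideal.span (Set.range y') := by
    rw [← Ideal.comap_map_eq_self_of_faithfullyFlat (B := S) (Ideal.span (Set.range y'))]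
    exact hmem
  have h2 : Ideal.span (Set.range y') = I := by
    refine le_antisymm ?_ ?_
    · exact hy ▸ Ideal.span_mono (by rintro _ ⟨j, rfl⟩; exact ⟨_, rfl⟩)
    · conv_lhs => rw [← hy]
      refine Ideal.span_le.2 ?_
      rintro _ ⟨j, rfl⟩
      rcases eq_or_ne j i with rfl | hj
      · exact h1
      obtain ⟨k, hk⟩ := Fin.exists_succAbove_eq (x := Fin.cast hm j) (y := i') (fun he => hj (Fin.cast_injective hm he))
      exact Ideal.subset_span ⟨k, show y (Fin.cast hm.symm (i'.succAbove k)) = y j by rw [hk]; rfl⟩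
  have h3 := spanFinrank_le_of_range y'
  rw [h2] at h3
  omega

section Core

variable {R S : Type u} [CommRing R] [CommRing S] [IsRegularLocalRing R] [IsRegularLocalRing S] [Algebra R S]
  [IsLocalHom (algebraMap R S)] [Module.Flat R S] (I : Ideal R) (J : Ideal S) (hI : I ≠ ⊤) (hJ : J ≠ ⊤)
  (hIJ : I.map (algebraMap R S) ≤ J) [Algebra (R ⧸ I) (S ⧸ J)] [IsScalarTower R (R ⧸ I) (S ⧸ J)]
  [Module.Flat (R ⧸ I) (S ⧸ J)]

omit [IsRegularLocalRing R] [IsRegularLocalRing S] [IsLocalHom (algebraMap R S)] [Module.Flat R S] in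
/-- Flatness of the quotient separates the ideal from the closed fibre. -/
theorem inf_map_le (m : Ideal R) :
    J ⊓ m.map (algebraMap R S) ≤ I.map (algebraMap R S) ⊔ m.map (algebraMap R S) * J := by
  classical
  rintro x ⟨hxJ, hxm⟩
  obtain ⟨k, a, s, hxs⟩ := Submodule.mem_span_set'.1 hxm
  choose r hr hrs using fun i => (s i).2
  have hval : ∀ (r : R) (t : S), (Ideal.Quotient.mk I r) • Ideal.Quotient.mk J t =
      Ideal.Quotient.mk J (algebraMap R S r * t) := fun r t => by
    rw [← Ideal.Quotient.algebraMap_eq I, IsScalarTower.algebraMap_smul, Algebra.smul_def, map_mul,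
      IsScalarTower.algebraMap_apply R S (S ⧸ J), Ideal.Quotient.algebraMap_eq]
  have h0 : ∑ i, Ideal.Quotient.mk I (r i) • Ideal.Quotient.mk J (a i) = 0 := by
    simp only [hval, ← map_sum]
    rw [Ideal.Quotient.eq_zero_iff_mem]
    have hx' : ∑ i, algebraMap R S (r i) * a i = x := by
      rw [← hxs]
      exact Finset.sum_congr rfl fun i _ => by rw [smul_eq_mul, hrs, mul_comm]
    rw [hx']
    exact hxJ
  obtain ⟨l, c, y, hy, hc⟩ := Module.Flat.isTrivialRelation_of_sum_smul_eq_zero (R := R ⧸ I) (M := S ⧸ J) h0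
  dsimp only at hy hc
  choose c' hc' using fun i j => Ideal.Quotient.mk_surjective (c i j)
  choose y' hy' using fun j => Ideal.Quotient.mk_surjective (y j)
  have hj : ∀ i, a i - ∑ j, algebraMap R S (c' i j) * y' j ∈ J := fun i => by
    rw [← Ideal.Quotient.eq_zero_iff_mem, map_sub, map_sum, sub_eq_zero, hy i]
    exact Finset.sum_congr rfl fun j _ => by rw [← hval, hc', hy']
  have hI' : ∀ j, ∑ i, r i * c' i j ∈ I := fun j => by
    rw [← Ideal.Quotient.eq_zero_iff_mem, map_sum, ← hc j]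
    exact Finset.sum_congr rfl fun i _ => by rw [map_mul, hc']
  have he : x = ∑ j, algebraMap R S (∑ i, r i * c' i j) * y' j +
      ∑ i, algebraMap R S (r i) * (a i - ∑ j, algebraMap R S (c' i j) * y' j) := by
    simp only [map_sum, map_mul, Finset.sum_mul, mul_sub, Finset.sum_sub_distrib, Finset.mul_sum, mul_assoc]
    rw [Finset.sum_comm, add_sub_cancel, ← hxs]
    exact Finset.sum_congr rfl fun i _ => by rw [smul_eq_mul, ← hrs, mul_comm]
  rw [he]
  exact Submodule.add_mem_sup (sum_mem fun j _ => Ideal.mul_mem_right _ _ (Ideal.mem_map_of_mem _ (hI' j)))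
    (sum_mem fun i _ => Ideal.mul_mem_mul (Ideal.mem_map_of_mem _ (hr i)) (hj i))

include hI hJ hIJ in
/-- The quotient has finite tor dimension over the base change. -/
theorem hasFiniteTorDim_quotient [IsRegularLocalRing (S ⧸ (maximalIdeal R).map (algebraMap R S))]
    [Algebra (S ⧸ I.map (algebraMap R S)) (S ⧸ J)] [IsScalarTower S (S ⧸ I.map (algebraMap R S)) (S ⧸ J)] :
    DRing.HasFiniteTorDim (S ⧸ I.map (algebraMap R S)) (S ⧸ J) := by
  let IS := I.map (algebraMap R S)
  haveI := isLocalRing_quotient hI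
  haveI := isLocalRing_quotient (ne_top_of_le_ne_top hJ hIJ)
  haveI : Module.Flat (R ⧸ I) (S ⧸ IS) := CatLib.flat_quotient I
  haveI : Module.Finite (S ⧸ IS) (S ⧸ J) := Module.Finite.of_restrictScalars_finite S _ _
  haveI : IsScalarTower (R ⧸ I) (S ⧸ IS) (S ⧸ J) := ⟨fun x y z => by
    obtain ⟨r, rfl⟩ := Ideal.Quotient.mk_surjective x
    obtain ⟨s, rfl⟩ := Ideal.Quotient.mk_surjective y
    have h1 : Ideal.Quotient.mk I r • Ideal.Quotient.mk IS s = (algebraMap R S r * s) • (1 : S ⧸ IS) := by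
      rw [Algebra.smul_def (algebraMap R S r * s), mul_one, Algebra.smul_def]; rfl
    rw [h1, smul_assoc, one_smul, show Ideal.Quotient.mk IS s = s • (1 : S ⧸ IS) by
      rw [Algebra.smul_def, mul_one]; rfl, smul_assoc, one_smul, mul_smul,
      ← Ideal.Quotient.algebraMap_eq I, IsScalarTower.algebraMap_smul, IsScalarTower.algebraMap_smul]⟩
  let p := maximalIdeal (R ⧸ I)
  let K := p.map (algebraMap (R ⧸ I) (S ⧸ IS))
  have hm : (maximalIdeal R).map (algebraMap R S) ≤ maximalIdeal S :=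
    ((local_hom_TFAE (algebraMap R S)).out 0 2).1 ‹_›
  have hle : IS ≤ (maximalIdeal R).map (algebraMap R S) := Ideal.map_mono (le_maximalIdeal hI)
  have hK : K = ((maximalIdeal R).map (algebraMap R S)).map (Ideal.Quotient.mk IS) := by
    show ((maximalIdeal (R ⧸ I))).map _ = _
    rw [← map_maximalIdeal_of_surjective (Ideal.Quotient.mk I) Ideal.Quotient.mk_surjective, Ideal.map_map,
      Ideal.map_map]
    rfl
  have hKm : K ≤ maximalIdeal (S ⧸ IS) := by
    rw [hK, ← map_maximalIdeal_of_surjective (Ideal.Quotient.mk IS) Ideal.Quotient.mk_surjective]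
    exact Ideal.map_mono hm
  let e : (S ⧸ IS) ⧸ K ≃+* S ⧸ (maximalIdeal R).map (algebraMap R S) :=
    ((Ideal.quotEquivOfEq hK).trans (DoubleQuot.quotQuotEquivQuotSup IS _)).trans
      (Ideal.quotEquivOfEq (sup_eq_right.2 hle))
  haveI : IsRegularLocalRing ((S ⧸ IS) ⧸ K) := IsRegularLocalRing.of_ringEquiv e.symm
  have h1 := CommAlgDim.pdlt_of_isRegularLocalRing ((S ⧸ IS) ⧸ K) (((S ⧸ IS) ⧸ K) ⊗[S ⧸ IS] (S ⧸ J))
  exact CILib.hasFiniteTorDim_of_FD (CILib.FD_of_pdlt _ ((DepthLib.pdlt_fibre_iff (R ⧸ I) p hKm _ (S ⧸ J)).1 h1))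

include hI hJ hIJ in
/-- Avramov's theorem for a flat presentation. -/
theorem hasRegKer_iff_of_flat [IsRegularLocalRing (S ⧸ (maximalIdeal R).map (algebraMap R S))] :
    HasRegKer (Ideal.Quotient.mk J) ↔
      HasRegKer (Ideal.Quotient.mk I) ∧
        HasRegKer (Ideal.Quotient.mk (J.map (Ideal.Quotient.mk ((maximalIdeal R).map (algebraMap R S))))) := by
  classical
  let IS := I.map (algebraMap R S)
  let M₀ := (maximalIdeal R).map (algebraMap R S)
  let Jb := J.map (Ideal.Quotient.mk M₀)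
  have hm : M₀ ≤ maximalIdeal S := ((local_hom_TFAE (algebraMap R S)).out 0 2).1 ‹_›
  have hle : IS ≤ M₀ := Ideal.map_mono (le_maximalIdeal hI)
  have hJm : M₀ ⊔ J ≠ ⊤ := ne_top_of_le_ne_top (maximalIdeal.isMaximal S).ne_top (sup_le hm (le_maximalIdeal hJ))
  have hJb : Jb ≠ ⊤ := fun h => hJm (by
    have h1 := congrArg (Ideal.comap (Ideal.Quotient.mk M₀)) h
    rw [Ideal.comap_map_of_surjective _ Ideal.Quotient.mk_surjective, ← RingHom.ker_eq_comap_bot, Ideal.mk_ker,
      Ideal.comap_top, sup_comm] at h1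
    exact h1)
  haveI := isLocalRing_quotient hI
  haveI := isLocalRing_quotient hJ
  haveI := isLocalRing_quotient hJb
  haveI := isLocalRing_quotient (ne_top_of_le_ne_top hJ hIJ)
  rw [TransLib.hasRegKer_iff Ideal.Quotient.mk_surjective, TransLib.hasRegKer_iff Ideal.Quotient.mk_surjective,
    TransLib.hasRegKer_iff Ideal.Quotient.mk_surjective, Ideal.mk_ker, Ideal.mk_ker, Ideal.mk_ker]
  -- dimension formulas
  have hS : ringKrullDim S = ringKrullDim R + ringKrullDim (S ⧸ M₀) :=
    CatLib.ringKrullDim_eq_add_of_flat (A := R) (B := S)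
  have hSI : ringKrullDim (S ⧸ IS) = ringKrullDim (R ⧸ I) + ringKrullDim (S ⧸ M₀) := by
    haveI : Module.Flat (R ⧸ I) (S ⧸ IS) := CatLib.flat_quotient I
    have hK : (maximalIdeal (R ⧸ I)).map (algebraMap (R ⧸ I) (S ⧸ IS)) = M₀.map (Ideal.Quotient.mk IS) := by
      rw [← map_maximalIdeal_of_surjective (Ideal.Quotient.mk I) Ideal.Quotient.mk_surjective, Ideal.map_map,
        Ideal.map_map]
      rfl
    haveI : IsLocalHom (algebraMap (R ⧸ I) (S ⧸ IS)) := ((local_hom_TFAE _).out 2 0).1 (by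
      rw [hK, ← map_maximalIdeal_of_surjective (Ideal.Quotient.mk IS) Ideal.Quotient.mk_surjective]
      exact Ideal.map_mono hm)
    rw [CatLib.ringKrullDim_eq_add_of_flat (A := R ⧸ I) (B := S ⧸ IS), hK,
      ringKrullDim_eq_of_ringEquiv ((DoubleQuot.quotQuotEquivQuotSup IS M₀).trans
        (Ideal.quotEquivOfEq (sup_eq_right.2 hle)))]
  have hSJ : ringKrullDim (S ⧸ J) = ringKrullDim (R ⧸ I) + ringKrullDim ((S ⧸ M₀) ⧸ Jb) := by
    have hK : (maximalIdeal (R ⧸ I)).map (algebraMap (R ⧸ I) (S ⧸ J)) = M₀.map (Ideal.Quotient.mk J) := by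
      rw [← map_maximalIdeal_of_surjective (Ideal.Quotient.mk I) Ideal.Quotient.mk_surjective, Ideal.map_map,
        Ideal.map_map]
      congr 1
      refine RingHom.ext fun r => ?_
      simp only [RingHom.comp_apply]
      rw [← Ideal.Quotient.algebraMap_eq I, ← IsScalarTower.algebraMap_apply,
        IsScalarTower.algebraMap_apply R S (S ⧸ J), Ideal.Quotient.algebraMap_eq]
    haveI : IsLocalHom (algebraMap (R ⧸ I) (S ⧸ J)) := ((local_hom_TFAE _).out 2 0).1 (by
      rw [hK, ← map_maximalIdeal_of_surjective (Ideal.Quotient.mk J) Ideal.Quotient.mk_surjective]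
      exact Ideal.map_mono hm)
    rw [CatLib.ringKrullDim_eq_add_of_flat (A := R ⧸ I) (B := S ⧸ J), hK,
      ringKrullDim_eq_of_ringEquiv ((DoubleQuot.quotQuotEquivQuotSup J M₀).trans
        (Ideal.quotEquivOfEq (sup_comm J M₀))),
      ringKrullDim_eq_of_ringEquiv (DoubleQuot.quotQuotEquivQuotSup M₀ J)]
  obtain ⟨dR, hdR⟩ := CommAlgDim.exists_ringKrullDim_eq (R := R)
  obtain ⟨dA, hdA⟩ := CommAlgDim.exists_ringKrullDim_eq (R := R ⧸ I)
  obtain ⟨dF, hdF⟩ := CommAlgDim.exists_ringKrullDim_eq (R := (S ⧸ M₀) ⧸ Jb)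
  obtain ⟨dB, hdB⟩ := CommAlgDim.exists_ringKrullDim_eq (R := S ⧸ J)
  obtain ⟨dS, hdS⟩ := CommAlgDim.exists_ringKrullDim_eq (R := S)
  obtain ⟨dT, hdT⟩ := CommAlgDim.exists_ringKrullDim_eq (R := S ⧸ IS)
  obtain ⟨d₀, hd₀⟩ := CommAlgDim.exists_ringKrullDim_eq (R := S ⧸ M₀)
  rw [hdS, hdR, hd₀] at hS
  rw [hdT, hdA, hd₀] at hSI
  rw [hdB, hdA, hdF] at hSJ
  norm_cast at hS hSI hSJ
  rw [hdB, hdS, hdA, hdR, hdF, hd₀]
  norm_cast
  constructor
  · intro h
    letI : Algebra (S ⧸ IS) (S ⧸ J) := (Ideal.Quotient.factor hIJ).toAlgebra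
    haveI : IsScalarTower S (S ⧸ IS) (S ⧸ J) := ⟨fun x y z => by
      obtain ⟨y, rfl⟩ := Ideal.Quotient.mk_surjective y
      obtain ⟨z, rfl⟩ := Ideal.Quotient.mk_surjective z
      show Ideal.Quotient.mk J (x * y) * Ideal.Quotient.mk J z = x • (Ideal.Quotient.mk J y * Ideal.Quotient.mk J z)
      rw [Algebra.smul_def, map_mul, Ideal.Quotient.algebraMap_eq, mul_assoc]⟩
    have hreg : ∃ rs : List S, Ideal.ofList rs = J ∧ IsRegular S rs := by
      obtain ⟨rs, hrs, he⟩ := (TransLib.hasRegKer_iff (π := Ideal.Quotient.mk J) Ideal.Quotient.mk_surjective).2 (by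
        rw [Ideal.mk_ker, hdB, hdS]; exact_mod_cast h)
      exact ⟨rs, he.trans Ideal.mk_ker, hrs⟩
    obtain ⟨⟨rs, hrs, hrsreg⟩, rs', hrs', hrsreg'⟩ := CILib.exists_regular_of_finiteTorDim IS J hIJ hJ
      (hasFiniteTorDim_quotient I J hI hJ hIJ) hreg
    have hl := ringKrullDim_add_length_eq_ringKrullDim_of_isRegular rs hrsreg
    rw [hrs, hdT, hdS] at hl
    norm_cast at hl
    have hl' := ringKrullDim_add_length_eq_ringKrullDim_of_isRegular rs' hrsreg'
    rw [hrs', ringKrullDim_eq_of_ringEquiv ((DoubleQuot.quotQuotEquivQuotSup IS J).trans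
      (Ideal.quotEquivOfEq (sup_eq_right.2 hIJ))), hdB, hdT] at hl'
    norm_cast at hl'
    have hμI : I.spanFinrank ≤ rs.length := by
      refine (spanFinrank_le_map (S := S) I).trans ?_
      rw [show I.map (algebraMap R S) = Ideal.ofList rs from hrs.symm]
      exact CommAlgDim.spanFinrank_ofList_le rs
    have hμJ : Jb.spanFinrank ≤ rs'.length := by
      rw [show Jb = (J.map (Ideal.Quotient.mk IS)).map (Ideal.Quotient.factor hle) by
        rw [Ideal.map_map, Ideal.Quotient.factor_comp_mk], ← hrs', Ideal.map_ofList]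
      exact (CommAlgDim.spanFinrank_ofList_le _).trans (by simp)
    have hJb' : (Ideal.map (Ideal.Quotient.mk (Ideal.map (algebraMap R S) (maximalIdeal R))) J).spanFinrank ≤ rs'.length := hμJ
    constructor <;> omega
  · rintro ⟨h1, h2⟩
    obtain ⟨g, hg⟩ := exists_range_eq Jb
    have hgJ : ∀ i, ∃ x ∈ J, Ideal.Quotient.mk M₀ x = g i := fun i =>
      (Ideal.mem_map_iff_of_surjective _ Ideal.Quotient.mk_surjective).1 (hg.le (Ideal.subset_span ⟨i, rfl⟩))
    choose x hx hxg using hgJ
    have key : J ≤ (Ideal.span (Set.range x) ⊔ IS) ⊔ maximalIdeal S • J := by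
      intro z hz
      have hzb : Ideal.Quotient.mk M₀ z ∈ (Ideal.span (Set.range x)).map (Ideal.Quotient.mk M₀) := by
        rw [Ideal.map_span, ← Set.range_comp, show Ideal.Quotient.mk M₀ ∘ x = g from funext hxg, hg]
        exact Ideal.mem_map_of_mem _ hz
      obtain ⟨w, hw, hwz⟩ := (Ideal.mem_map_iff_of_surjective _ Ideal.Quotient.mk_surjective).1 hzb
      have hzw : z - w ∈ J ⊓ M₀ :=
        ⟨J.sub_mem hz (Ideal.span_le.2 (by rintro _ ⟨i, rfl⟩; exact hx i) hw),
          Ideal.Quotient.eq.1 hwz.symm⟩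
      rw [show z = w + (z - w) by ring]
      refine add_mem (Ideal.mem_sup_left (Ideal.mem_sup_left hw)) ?_
      exact (sup_le (le_sup_right.trans le_sup_left)
        ((Ideal.mul_mono_left hm).trans le_sup_right) : _ ≤ (Ideal.span (Set.range x) ⊔ IS) ⊔ maximalIdeal S • J)
        (inf_map_le I J (maximalIdeal R) hzw)
    have hJeq : Ideal.span (Set.range x) ⊔ IS = J :=
      le_antisymm (sup_le (Ideal.span_le.2 (by rintro _ ⟨i, rfl⟩; exact hx i)) hIJ)
        (Submodule.le_of_le_smul_of_le_jacobson_bot (IsNoetherian.noetherian _)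
          (jacobson_eq_maximalIdeal ⊥ bot_ne_top).ge key)
    obtain ⟨y, hy⟩ := exists_range_eq I
    have hμ : J.spanFinrank ≤ Jb.spanFinrank + I.spanFinrank := by
      refine le_trans (le_of_eq ?_) (spanFinrank_le_of_range (Fin.append x fun i => algebraMap R S (y i)))
      congr 1
      conv_lhs => rw [← hJeq, show IS = Ideal.span (Set.range fun i => algebraMap R S (y i)) by
        rw [show (fun i => algebraMap R S (y i)) = algebraMap R S ∘ y from rfl, Set.range_comp, ← Ideal.map_span, hy],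
        ← Ideal.span_union]
      refine congrArg Ideal.span (Set.ext fun a => ⟨?_, ?_⟩)
      · rintro (⟨i, rfl⟩ | ⟨i, rfl⟩)
        · exact ⟨_, Fin.append_left _ _ i⟩
        · exact ⟨_, Fin.append_right x (fun i => algebraMap R S (y i)) i⟩
      · rintro ⟨i, rfl⟩
        refine Fin.addCases (fun i => ?_) (fun i => ?_) i
        · exact Or.inl ⟨i, (Fin.append_left _ _ i).symm⟩
        · exact Or.inr ⟨i, (Fin.append_right x (fun i => algebraMap R S (y i)) i).symm⟩
    have hJb' : J.spanFinrank ≤ (Ideal.map (Ideal.Quotient.mk (Ideal.map (algebraMap R S) (maximalIdeal R))) J).spanFinrank + I.spanFinrank := hμ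
    omega

end Core

/-- Avramov's theorem. -/
theorem isCompleteIntersection_iff_of_flat {A B : Type u} [CommRing A] [CommRing B] [IsNoetherianRing A]
    [IsNoetherianRing B] [IsLocalRing A] [IsLocalRing B] [Algebra A B] [IsLocalHom (algebraMap A B)]
    [Module.Flat A B] [IsLocalRing (B ⧸ (maximalIdeal A).map (algebraMap A B))] :
    Pi1.IsCompleteIntersection B ↔ Pi1.IsCompleteIntersection A ∧
      Pi1.IsCompleteIntersection (B ⧸ (maximalIdeal A).map (algebraMap A B)) := by
  haveI := isNoetherianRing_cpl A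
  haveI := isNoetherianRing_cpl B
  have hθ : (maximalIdeal A).map ((algebraMap B (Cpl B)).comp (algebraMap A B)) ≤ maximalIdeal (Cpl B) := by
    rw [← Ideal.map_map, AdicCompletion.maximalIdeal_eq_map]
    exact Ideal.map_mono (((local_hom_TFAE (algebraMap A B)).out 0 2).1 ‹_›)
  let f : Cpl A →+* Cpl B := CompleteLib.completionLift (maximalIdeal A) (maximalIdeal (Cpl B)) _ hθ
  have hf : ∀ a, f (algebraMap A (Cpl A) a) = algebraMap B (Cpl B) (algebraMap A B a) := fun a =>
    CompleteLib.completionLift_algebraMap _ _ _ hθ a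
  haveI hfloc : IsLocalHom f := ((local_hom_TFAE f).out 2 0).1 (by
    rw [AdicCompletion.maximalIdeal_eq_map, Ideal.map_map,
      show f.comp (algebraMap A (Cpl A)) = (algebraMap B (Cpl B)).comp (algebraMap A B) from RingHom.ext hf]
    exact hθ)
  have hflat : f.Flat := by
    letI := f.toAlgebra
    haveI : Module.FaithfullyFlat B (Cpl B) := flat_cpl B
    haveI : Module.Flat A (Cpl B) := Module.Flat.trans A B (Cpl B)
    haveI : IsScalarTower A (Cpl A) (Cpl B) := IsScalarTower.of_algebraMap_eq fun a => by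
      rw [IsScalarTower.algebraMap_apply A B (Cpl B)]; exact (hf a).symm
    haveI : IsLocalHom (algebraMap A (Cpl B)) := by
      rw [IsScalarTower.algebraMap_eq A B (Cpl B)]; exact RingHom.isLocalHom_comp _ _
    exact CatLib.flat_completion_of_flat (A := A) (B := Cpl B)
  obtain ⟨Λ, Λ', _, _, _, _, n, N, ρ, σ, τ, -, hρ, hσ, hcomp, hτ, hτloc, hR, hS, hF⟩ := exists_presentation f
  letI := τ.toAlgebra
  haveI : Module.Flat (MvPowerSeries (Fin n) Λ) (MvPowerSeries (Fin N) Λ') := hτ
  haveI : IsLocalHom (algebraMap (MvPowerSeries (Fin n) Λ) (MvPowerSeries (Fin N) Λ')) := hτloc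
  let I := RingHom.ker ρ
  let J := RingHom.ker σ
  have hIJ : I.map τ ≤ J := Ideal.map_le_iff_le_comap.2 fun x hx => by
    rw [Ideal.mem_comap, RingHom.mem_ker, ← RingHom.comp_apply, hcomp, RingHom.comp_apply, RingHom.mem_ker.1 hx,
      map_zero]
  let q : MvPowerSeries (Fin n) Λ ⧸ I →+* MvPowerSeries (Fin N) Λ' ⧸ J :=
    Ideal.quotientMap J τ (Ideal.map_le_iff_le_comap.1 hIJ)
  letI := q.toAlgebra
  haveI : IsScalarTower (MvPowerSeries (Fin n) Λ) (MvPowerSeries (Fin n) Λ ⧸ I) (MvPowerSeries (Fin N) Λ' ⧸ J) :=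
    ⟨fun r x z => by
      obtain ⟨x, rfl⟩ := Ideal.Quotient.mk_surjective x
      obtain ⟨z, rfl⟩ := Ideal.Quotient.mk_surjective z
      show Ideal.Quotient.mk J (τ (r * x)) * Ideal.Quotient.mk J z =
        Ideal.Quotient.mk J (τ r * (τ x * z))
      rw [← map_mul, map_mul τ, mul_assoc]⟩
  haveI : Module.Flat (MvPowerSeries (Fin n) Λ ⧸ I) (MvPowerSeries (Fin N) Λ' ⧸ J) := by
    let eA := RingHom.quotientKerEquivOfSurjective hρ
    let eB := RingHom.quotientKerEquivOfSurjective hσ
    have hq : q = eB.symm.toRingHom.comp (f.comp eA.toRingHom) := by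
      refine Ideal.Quotient.ringHom_ext (RingHom.ext fun x => ?_)
      refine (RingEquiv.eq_symm_apply eB).2 ?_
      exact RingHom.congr_fun hcomp x
    have hflq : q.Flat := by
      rw [hq]
      exact ((RingHom.Flat.of_bijective eA.bijective).comp hflat).comp (RingHom.Flat.of_bijective eB.symm.bijective)
    exact hflq
  let π : B →+* B ⧸ (maximalIdeal A).map (algebraMap A B) := Ideal.Quotient.mk _
  obtain ⟨σ', hσ', -, hker'⟩ := exists_cplMap π Ideal.Quotient.mk_surjective
  let M₀ := (maximalIdeal (MvPowerSeries (Fin n) Λ)).map τ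
  have hM : M₀.map σ = RingHom.ker σ' := by
    rw [hker', Ideal.mk_ker, Ideal.map_map, hcomp, ← Ideal.map_map,
      show (maximalIdeal (MvPowerSeries (Fin n) Λ)).map ρ = maximalIdeal (Cpl A) from map_maximalIdeal ρ hρ,
      AdicCompletion.maximalIdeal_eq_map, Ideal.map_map, Ideal.map_map,
      show f.comp (algebraMap A (Cpl A)) = (algebraMap B (Cpl B)).comp (algebraMap A B) from RingHom.ext hf]
  let π₀ : MvPowerSeries (Fin N) Λ' ⧸ M₀ →+* Cpl (B ⧸ (maximalIdeal A).map (algebraMap A B)) :=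
    Ideal.Quotient.lift M₀ (σ'.comp σ) fun x hx => hM.le (Ideal.mem_map_of_mem σ hx)
  have hπ₀ : Function.Surjective π₀ := Ideal.Quotient.lift_surjective_of_surjective _ _ (hσ'.comp hσ)
  have hker₀ : RingHom.ker π₀ = J.map (Ideal.Quotient.mk M₀) := by
    rw [Ideal.ker_quotient_lift]
    show (RingHom.ker (σ'.comp σ)).map _ = _
    rw [← RingHom.comap_ker, ← hM, Ideal.comap_map_of_surjective σ hσ, Ideal.map_sup, Ideal.map_quotient_self,
      bot_sup_eq, ← RingHom.ker_eq_comap_bot]
  rw [isCompleteIntersection_iff_cpl σ hσ, isCompleteIntersection_iff_cpl ρ hρ,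
    isCompleteIntersection_iff_cpl π₀ hπ₀, hasRegKer_iff_mk_ker σ, hasRegKer_iff_mk_ker ρ, hasRegKer_iff_mk_ker π₀,
    hker₀]
  exact hasRegKer_iff_of_flat I J (RingHom.ker_ne_top ρ) (RingHom.ker_ne_top σ) hIJ

end CIRingLib
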