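import Groth.Agent.TransLib.CIOver
import Groth.Agent.CILib.MinGen
import Groth.Agent.CommAlgDim.Regular
import Mathlib

/-!
# Complete intersections do not depend on the regular presentation
-/

set_option autoImplicit false

universe u

open RingTheory.Sequence IsLocalRing

namespace CIRingLib

open TransLib (HasRegKer)

/-- Relations between the members of a regular sequence are trivial. -/
theorem exists_antisymm_of_relation : ∀ {n : ℕ} {R : Type u} [CommRing R] (x : Fin n → R),
    IsWeaklyRegular R (List.ofFn x) → ∀ v : Fin n → R, ∑ i, v i * x i = 0 →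
      ∃ A : Fin n → Fin n → R, ∀ i, v i = ∑ j, (A i j - A j i) * x j
  | 0, R, _, x, _, v, _ => ⟨fun i => i.elim0, fun i => i.elim0⟩
  | n + 1, R, _, x, h, v, hv => by
    rw [List.ofFn_succ, isWeaklyRegular_cons_iff] at h
    obtain ⟨hx0, hrest⟩ := h
    let S := R ⧸ Ideal.span {x 0}
    let π : R →+* S := Ideal.Quotient.mk (Ideal.span {x 0})
    have hπ0 : π (x 0) = 0 := Ideal.Quotient.eq_zero_iff_mem.2 (Ideal.mem_span_singleton_self _)
    have hrest' : IsWeaklyRegular S (List.ofFn fun i : Fin n => π (x i.succ)) := by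
      have e : QuotSMulTop (x 0) R ≃ₗ[R] S := Submodule.quotEquivOfEq _ _ (by
        rw [← Submodule.ideal_span_singleton_smul]
        simp [Submodule.ext_iff, Ideal.mem_span_singleton])
      have h2 := (e.isWeaklyRegular_congr _).1 hrest
      rw [← isWeaklyRegular_map_algebraMap_iff S] at h2
      rw [List.map_ofFn] at h2
      exact h2
    have hvS : ∑ i : Fin n, π (v i.succ) * π (x i.succ) = 0 := by
      have := congrArg π hv
      rw [Fin.sum_univ_succ, map_add, map_mul, hπ0, mul_zero, zero_add, map_sum, map_zero] at this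
      simpa only [map_mul] using this
    obtain ⟨Ab, hA⟩ := exists_antisymm_of_relation _ hrest' _ hvS
    choose A hAb using fun i j => Ideal.Quotient.mk_surjective (Ab i j)
    have hw : ∀ i : Fin n, ∃ w, v i.succ = ∑ j, (A i j - A j i) * x j.succ + w * x 0 := fun i => by
      have h1 : π (v i.succ - ∑ j, (A i j - A j i) * x j.succ) = 0 := by
        rw [map_sub, hA i, map_sum, sub_eq_zero]
        simp only [map_mul, map_sub, π, hAb]
      obtain ⟨w, hw⟩ := Ideal.mem_span_singleton'.1 (Ideal.Quotient.eq_zero_iff_mem.1 h1)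
      exact ⟨w, by rw [hw]; ring⟩
    choose w hw using hw
    have hv0 : v 0 = -∑ i : Fin n, w i * x i.succ := by
      have h0 : ∑ i : Fin n, (∑ j, (A i j - A j i) * x j.succ) * x i.succ = 0 := by
        simp only [Finset.sum_mul, sub_mul, Finset.sum_sub_distrib]
        rw [sub_eq_zero]
        rw [Finset.sum_comm]
        exact Finset.sum_congr rfl fun i _ => Finset.sum_congr rfl fun j _ => by ring
      have h1 : x 0 • (v 0 + ∑ i : Fin n, w i * x i.succ) = x 0 • (0 : R) := by
        rw [Fin.sum_univ_succ] at hv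
        simp only [hw, add_mul, Finset.sum_add_distrib, h0, zero_add] at hv
        rw [smul_zero, smul_eq_mul, mul_add, Finset.mul_sum]
        rw [← hv, mul_comm (v 0)]
        exact congrArg _ (Finset.sum_congr rfl fun i _ => by ring)
      exact eq_neg_of_add_eq_zero_left (hx0 h1)
    refine ⟨Fin.cases (fun _ => 0) fun i => Fin.cases (w i) (A i), fun i => ?_⟩
    refine Fin.cases ?_ (fun i => ?_) i
    · rw [hv0, Fin.sum_univ_succ]
      simp
    · rw [hw i, Fin.sum_univ_succ]
      simp [add_comm]

theorem exists_range_eq {R : Type u} [CommRing R] [IsNoetherianRing R] (I : Ideal R) :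
    ∃ x : Fin I.spanFinrank → R, Ideal.span (Set.range x) = I := by
  have hfg : I.FG := IsNoetherian.noetherian I
  have hfin : (Submodule.generators I).Finite := Submodule.FG.finite_generators hfg
  have hc : (Submodule.generators I).ncard = I.spanFinrank := Submodule.FG.generators_ncard hfg
  have : Fintype (Submodule.generators I) := hfin.fintype
  let e : Fin I.spanFinrank ≃ Submodule.generators I :=
    (finCongr (by rw [← hc, ← Nat.card_coe_set_eq, Nat.card_eq_fintype_card])).trans (Fintype.equivFin _).symm
  refine ⟨fun i => (e i : R), ?_⟩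
  rw [show Set.range (fun i => (e i : R)) = Submodule.generators I from by
    ext z; exact ⟨fun ⟨i, hi⟩ => hi ▸ (e i).2, fun hz => ⟨e.symm ⟨z, hz⟩, by simp⟩⟩]
  exact Submodule.span_generators I

theorem spanFinrank_le_of_range {R : Type u} [CommRing R] {n : ℕ} (x : Fin n → R) :
    (Ideal.span (Set.range x)).spanFinrank ≤ n := by
  refine (Submodule.spanFinrank_span_le_ncard_of_finite (Set.finite_range x)).trans ?_
  rw [← Set.image_univ]
  exact (Set.ncard_image_le (Set.toFinite _)).trans (by simp)

section Minimal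

variable {R R' S : Type u} [CommRing R] [CommRing R'] [CommRing S] [IsRegularLocalRing R] [IsRegularLocalRing R']
  [IsLocalRing S] (π : R →+* S) (π' : R' →+* S)

theorem map_maximalIdeal (hπ : Function.Surjective π) : (maximalIdeal R).map π = maximalIdeal S := by
  have : IsLocalHom π := IsLocalHom.of_surjective π hπ
  exact IsLocalRing.eq_maximalIdeal (Ideal.IsMaximal.map_of_surjective_of_ker_le hπ (TransLib.ker_le_maximalIdeal π))

/-- Lifts of generators generate when the kernel lies in the square. -/
theorem span_lifts (hπ' : Function.Surjective π') (hmin : RingHom.ker π' ≤ maximalIdeal R' ^ 2) {n : ℕ}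
    (x' : Fin n → R') (h : Ideal.span (Set.range fun i => π' (x' i)) = maximalIdeal S) :
    Ideal.span (Set.range x') = maximalIdeal R' := by
  have : IsLocalHom π' := IsLocalHom.of_surjective π' hπ'
  have hle : Ideal.span (Set.range x') ≤ maximalIdeal R' := Ideal.span_le.2 (by
    rintro _ ⟨i, rfl⟩
    have h1 : π' (x' i) ∈ maximalIdeal S := h ▸ Ideal.subset_span ⟨i, rfl⟩
    exact fun hu => h1 (hu.map π'))
  refine le_antisymm hle (Submodule.le_of_le_smul_of_le_jacobson_bot (IsNoetherian.noetherian _)
    (jacobson_eq_maximalIdeal ⊥ bot_ne_top).ge ?_)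
  rw [smul_eq_mul, ← pow_two]
  intro r hr
  have h2 : π' r ∈ (Ideal.span (Set.range x')).map π' := by
    rw [Ideal.map_span, ← Set.range_comp]
    rw [show Ideal.span (Set.range (π' ∘ x')) = maximalIdeal S from h, ← map_maximalIdeal π' hπ']
    exact Ideal.mem_map_of_mem _ hr
  obtain ⟨r', hr', he⟩ := (Ideal.mem_map_iff_of_surjective π' hπ').1 h2
  rw [show r = r' + (r - r') by ring]
  exact Submodule.add_mem_sup hr' (hmin (by rw [RingHom.mem_ker, map_sub, he, sub_self]))

theorem ringKrullDim_le_of_minimal (hπ : Function.Surjective π) (hπ' : Function.Surjective π')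
    (hmin' : RingHom.ker π' ≤ maximalIdeal R' ^ 2) : ringKrullDim R' ≤ ringKrullDim R := by
  obtain ⟨x, hx⟩ := exists_range_eq (maximalIdeal R)
  choose x' hx' using fun i => hπ' (π (x i))
  have h1 : Ideal.span (Set.range x') = maximalIdeal R' := span_lifts π' hπ' hmin' x' (by
    simp only [hx']
    rw [show (fun i => π (x i)) = π ∘ x from rfl, Set.range_comp, ← Ideal.map_span, hx, map_maximalIdeal π hπ])
  rw [← ‹IsRegularLocalRing R›.spanFinrank_maximalIdeal, ← ‹IsRegularLocalRing R'›.spanFinrank_maximalIdeal]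
  rw [← h1]
  exact_mod_cast spanFinrank_le_of_range x'

/-- The kernels of minimal presentations need equally many generators. -/
theorem spanFinrank_ker_le_of_minimal (hπ : Function.Surjective π) (hπ' : Function.Surjective π')
    (hmin' : RingHom.ker π' ≤ maximalIdeal R' ^ 2) :
    (RingHom.ker π').spanFinrank ≤ (RingHom.ker π).spanFinrank := by
  obtain ⟨x, hx⟩ := exists_range_eq (maximalIdeal R)
  have hxreg : IsWeaklyRegular R (List.ofFn x) := by
    have hofn : Ideal.ofList (List.ofFn x) = maximalIdeal R := (CILib.ofList_ofFn x).trans hx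
    refine (CommAlgDim.isRegular_of_dim (CommAlgDim.isCM_of_isRegularLocalRing R) ?_ ?_).toIsWeaklyRegular
    · exact fun r hr => hofn ▸ Ideal.subset_span hr
    · rw [hofn, List.length_ofFn, ringKrullDim_eq_zero_of_isField
        ((Ideal.Quotient.maximal_ideal_iff_isField_quotient _).1 (IsLocalRing.maximalIdeal.isMaximal R)), zero_add,
        ‹IsRegularLocalRing R›.spanFinrank_maximalIdeal]
  choose x' hx' using fun i => hπ' (π (x i))
  have hgen' : Ideal.span (Set.range x') = maximalIdeal R' := span_lifts π' hπ' hmin' x' (by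
    simp only [hx']
    rw [show (fun i => π (x i)) = π ∘ x from rfl, Set.range_comp, ← Ideal.map_span, hx, map_maximalIdeal π hπ])
  obtain ⟨g, hg⟩ := exists_range_eq (RingHom.ker π)
  have hgI : ∀ k, g k ∈ RingHom.ker π := fun k => hg ▸ Ideal.subset_span ⟨k, rfl⟩
  choose c hc using fun k => (Ideal.mem_span_range_iff_exists_fun (R := R)).1
    (show g k ∈ Ideal.span (Set.range x) from hx.symm ▸ TransLib.ker_le_maximalIdeal π (hgI k))
  choose c' hc' using fun k i => hπ' (π (c k i))
  let g' : Fin (RingHom.ker π).spanFinrank → R' := fun k => ∑ i, c' k i * x' i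
  have hg' : ∀ k, g' k ∈ RingHom.ker π' := fun k => by
    show π' (∑ i, c' k i * x' i) = 0
    simp only [map_sum, map_mul, hc', hx']
    simp only [← map_mul, ← map_sum, hc k]
    exact hgI k
  have key : RingHom.ker π' ≤ Ideal.span (Set.range g') ⊔ maximalIdeal R' • RingHom.ker π' := by
    intro h' hh'
    obtain ⟨d', hd'⟩ := (Ideal.mem_span_range_iff_exists_fun (R := R')).1
      (show h' ∈ Ideal.span (Set.range x') from hgen'.symm ▸ TransLib.ker_le_maximalIdeal π' hh')
    choose d hd using fun i => hπ (π' (d' i))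
    have hh : ∑ i, d i * x i ∈ RingHom.ker π := by
      show π (∑ i, d i * x i) = 0
      simp only [map_sum, map_mul, hd, ← hx']
      simp only [← map_mul, ← map_sum, hd']
      exact hh'
    obtain ⟨a, ha⟩ := (Ideal.mem_span_range_iff_exists_fun (R := R)).1 (hg.ge hh)
    obtain ⟨A, hA⟩ := exists_antisymm_of_relation x hxreg (fun i => d i - ∑ k, a k * c k i) (by
      simp only [sub_mul, Finset.sum_sub_distrib, Finset.sum_mul, mul_assoc]
      rw [Finset.sum_comm]
      simp only [← Finset.mul_sum, hc, ha, sub_self])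
    choose a' ha' using fun k => hπ' (π (a k))
    choose A' hA' using fun i j => hπ' (π (A i j))
    have he : ∀ i, d' i - ∑ k, a' k * c' k i - ∑ j, (A' i j - A' j i) * x' j ∈ RingHom.ker π' := fun i => by
      rw [RingHom.mem_ker]
      simp only [map_sub, map_sum, map_mul, ha', hc', hA', hx', ← hd]
      simp only [← map_mul, ← map_sum, ← map_sub]
      rw [show d i - ∑ k, a k * c k i = _ from hA i, sub_self, map_zero]
    have h0 : ∑ i, (∑ j, (A' i j - A' j i) * x' j) * x' i = 0 := by
      simp only [Finset.sum_mul, sub_mul, Finset.sum_sub_distrib]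
      rw [sub_eq_zero, Finset.sum_comm]
      exact Finset.sum_congr rfl fun i _ => Finset.sum_congr rfl fun j _ => by ring
    have hsplit : h' = ∑ k, a' k * g' k +
        ∑ i, (d' i - ∑ k, a' k * c' k i - ∑ j, (A' i j - A' j i) * x' j) * x' i := by
      simp only [sub_mul, Finset.sum_sub_distrib, g', Finset.mul_sum] at h0 ⊢
      simp only [Finset.sum_mul, sub_mul, Finset.sum_sub_distrib] at h0 ⊢
      rw [hd', h0, sub_zero, Finset.sum_comm (f := fun i k => a' k * c' k i * x' i)]
      simp only [mul_assoc]
      ring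
    rw [hsplit]
    refine Submodule.add_mem_sup (Ideal.sum_mem _ fun k _ => Ideal.mul_mem_left _ _ (Ideal.subset_span ⟨k, rfl⟩)) ?_
    refine Submodule.sum_mem _ fun i _ => ?_
    rw [mul_comm]
    exact Ideal.mul_mem_mul (hgen' ▸ Ideal.subset_span ⟨i, rfl⟩) (he i)
  have h2 : Ideal.span (Set.range g') = RingHom.ker π' :=
    le_antisymm (Ideal.span_le.2 (by rintro _ ⟨k, rfl⟩; exact hg' k))
      (Submodule.le_of_le_smul_of_le_jacobson_bot (IsNoetherian.noetherian _)
        (jacobson_eq_maximalIdeal ⊥ bot_ne_top).ge key)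
  rw [← h2]
  exact spanFinrank_le_of_range g'

theorem hasRegKer_iff_of_minimal (hπ : Function.Surjective π) (hπ' : Function.Surjective π')
    (hmin : RingHom.ker π ≤ maximalIdeal R ^ 2) (hmin' : RingHom.ker π' ≤ maximalIdeal R' ^ 2) :
    HasRegKer π ↔ HasRegKer π' := by
  rw [TransLib.hasRegKer_iff hπ, TransLib.hasRegKer_iff hπ',
    le_antisymm (ringKrullDim_le_of_minimal π π' hπ hπ' hmin') (ringKrullDim_le_of_minimal π' π hπ' hπ hmin),
    le_antisymm (spanFinrank_ker_le_of_minimal π π' hπ hπ' hmin')
      (spanFinrank_ker_le_of_minimal π' π hπ' hπ hmin)]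

end Minimal

/-- Every presentation factors through a minimal one. -/
theorem exists_minimal {S : Type u} [CommRing S] [IsLocalRing S] :
    ∀ (n : ℕ) (R : Type u) [CommRing R] [IsRegularLocalRing R], (maximalIdeal R).spanFinrank = n →
      ∀ π : R →+* S, Function.Surjective π →
        ∃ (P : Type u) (_ : CommRing P) (_ : IsRegularLocalRing P) (ψ : R →+* P) (π₀ : P →+* S),
          Function.Surjective ψ ∧ Function.Surjective π₀ ∧ π₀.comp ψ = π ∧
            RingHom.ker π₀ ≤ maximalIdeal P ^ 2 := by
  intro n
  induction n using Nat.strong_induction_on with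
  | _ n ih =>
    intro R _ _ hn π hπ
    by_cases h : RingHom.ker π ≤ maximalIdeal R ^ 2
    · exact ⟨R, inferInstance, inferInstance, RingHom.id R, π, Function.surjective_id, hπ, RingHom.comp_id π, h⟩
    obtain ⟨a, ha, ha2⟩ := Set.not_subset.1 h
    have ham := TransLib.ker_le_maximalIdeal π ha
    haveI := CommAlgDim.isRegularLocalRing_quotient_singleton ham ha2
    let π₁ : R ⧸ Ideal.span {a} →+* S := Ideal.Quotient.lift _ π fun z hz =>
      (show Ideal.span {a} ≤ RingHom.ker π from (Ideal.span_singleton_le_iff_mem _).2 ha) hz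
    have hlt : (maximalIdeal (R ⧸ Ideal.span {a})).spanFinrank < n := by
      have h1 := CommAlgDim.spanFinrank_maximalIdeal_quotient_singleton ham ha2
      rw [hn] at h1
      omega
    obtain ⟨P, _, _, ψ, π₀, hψ, hπ₀, he, hle⟩ := ih _ hlt (R ⧸ Ideal.span {a}) rfl π₁
      (Ideal.Quotient.lift_surjective_of_surjective _ _ hπ)
    refine ⟨P, inferInstance, inferInstance, ψ.comp (Ideal.Quotient.mk _), π₀,
      hψ.comp Ideal.Quotient.mk_surjective, hπ₀, ?_, hle⟩
    rw [← RingHom.comp_assoc, he]
    exact RingHom.ext fun z => rfl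

/-- Whether the kernel of a presentation by a regular local ring is generated by a regular sequence does not
depend on the presentation. -/
theorem hasRegKer_invariant {R R' S : Type u} [CommRing R] [CommRing R'] [CommRing S] [IsRegularLocalRing R]
    [IsRegularLocalRing R'] [IsLocalRing S] (π : R →+* S) (hπ : Function.Surjective π) (π' : R' →+* S)
    (hπ' : Function.Surjective π') : HasRegKer π ↔ HasRegKer π' := by
  obtain ⟨P, _, _, ψ, π₀, hψ, hπ₀, he, hle⟩ := exists_minimal _ R rfl π hπ
  obtain ⟨P', _, _, ψ', π₀', hψ', hπ₀', he', hle'⟩ := exists_minimal _ R' rfl π' hπ'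
  rw [← he, ← he', TransLib.hasRegKer_comp_iff hψ hπ₀, TransLib.hasRegKer_comp_iff hψ' hπ₀']
  exact hasRegKer_iff_of_minimal π₀ π₀' hπ₀ hπ₀' hle hle'

end CIRingLib
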