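import Groth.Agent.CIRingLib.Basic
import Groth.Agent.CompleteLib.CompletionHom
import Groth.Agent.CatLib.Completion
import Groth.Agent.CohenLib.FlatUnramified
import Groth.Agent.NormalLib.CompleteLocal
import Groth.Prelude.Def_Pi1
import Mathlib

/-!
# Complete intersections and completion
-/

set_option autoImplicit false

universe u

open RingTheory.Sequence IsLocalRing

namespace CIRingLib

open TransLib (HasRegKer)

/-- The completion of a Noetherian local ring. -/
abbrev Cpl (A : Type u) [CommRing A] [IsLocalRing A] : Type u := AdicCompletion (maximalIdeal A) A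

theorem isNoetherianRing_cpl (A : Type u) [CommRing A] [IsLocalRing A] [IsNoetherianRing A] :
    IsNoetherianRing (Cpl A) := CatLib.isNoetherianRing_cpl A

theorem flat_cpl (A : Type u) [CommRing A] [IsLocalRing A] [IsNoetherianRing A] :
    Module.FaithfullyFlat A (Cpl A) :=
  Module.FaithfullyFlat.of_flat_of_isLocalHom

variable {R A : Type u} [CommRing R] [CommRing A] [IsLocalRing R] [IsLocalRing A] [IsNoetherianRing R]
  [IsNoetherianRing A]

/-- The map of completions of a surjection. -/
theorem exists_cplMap (π : R →+* A) (hπ : Function.Surjective π) :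
    ∃ σ : Cpl R →+* Cpl A, Function.Surjective σ ∧ (∀ r, σ (algebraMap R (Cpl R) r) = algebraMap A (Cpl A) (π r)) ∧
      RingHom.ker σ = (RingHom.ker π).map (algebraMap R (Cpl R)) := by
  haveI := isNoetherianRing_cpl R
  haveI := isNoetherianRing_cpl A
  have hloc : IsLocalHom π := IsLocalHom.of_surjective π hπ
  have hθ : (maximalIdeal R).map ((algebraMap A (Cpl A)).comp π) ≤ maximalIdeal (Cpl A) := by
    rw [← Ideal.map_map, AdicCompletion.maximalIdeal_eq_map]
    exact Ideal.map_mono (((local_hom_TFAE π).out 0 2).1 hloc)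
  let σ : Cpl R →+* Cpl A := CompleteLib.completionLift (maximalIdeal R) (maximalIdeal (Cpl A)) _ hθ
  have hσ : ∀ r, σ (algebraMap R (Cpl R) r) = algebraMap A (Cpl A) (π r) := fun r =>
    CompleteLib.completionLift_algebraMap _ _ _ hθ r
  let K := (RingHom.ker π).map (algebraMap R (Cpl R))
  have hK : K ≤ RingHom.ker σ := Ideal.map_le_iff_le_comap.2 fun r hr => by
    rw [Ideal.mem_comap, RingHom.mem_ker, hσ, RingHom.mem_ker.1 hr, map_zero]
  haveI : Nontrivial (Cpl R ⧸ K) := Ideal.Quotient.nontrivial_iff.2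
    fun h => RingHom.ker_ne_top σ (top_le_iff.1 (h ▸ hK))
  haveI : IsLocalRing (Cpl R ⧸ K) := IsLocalRing.of_surjective' (Ideal.Quotient.mk K) Ideal.Quotient.mk_surjective
  haveI := NormalLib.isAdicComplete_quotient_local (R := Cpl R) K
  let χ : A →+* Cpl R ⧸ K := (Ideal.Quotient.lift (RingHom.ker π)
    ((Ideal.Quotient.mk K).comp (algebraMap R (Cpl R))) fun r hr =>
      Ideal.Quotient.eq_zero_iff_mem.2 (Ideal.mem_map_of_mem _ hr)).comp
        (RingHom.quotientKerEquivOfSurjective hπ).symm.toRingHom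
  have hχ : ∀ r, χ (π r) = Ideal.Quotient.mk K (algebraMap R (Cpl R) r) := fun r => by
    have h1 : (RingHom.quotientKerEquivOfSurjective hπ).symm (π r) = Ideal.Quotient.mk _ r :=
      (RingEquiv.symm_apply_eq _).2 rfl
    simp only [χ, RingHom.comp_apply, RingEquiv.toRingHom_eq_coe, RingEquiv.coe_toRingHom, h1, Ideal.Quotient.lift_mk]
  have hmk : IsLocalHom (Ideal.Quotient.mk K) := IsLocalHom.of_surjective _ Ideal.Quotient.mk_surjective
  have hχm : (maximalIdeal A).map χ ≤ maximalIdeal (Cpl R ⧸ K) := Ideal.map_le_iff_le_comap.2 fun a ha => by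
    obtain ⟨r, rfl⟩ := hπ a
    rw [Ideal.mem_comap, hχ]
    have hr : r ∈ maximalIdeal R := fun hu => ha (hu.map π)
    exact fun hu => hr (isUnit_of_map_unit (algebraMap R (Cpl R)) r (isUnit_of_map_unit _ _ hu))
  let τ : Cpl A →+* Cpl R ⧸ K := CompleteLib.completionLift (maximalIdeal A) (maximalIdeal (Cpl R ⧸ K)) χ hχm
  have hτ : τ.comp σ = Ideal.Quotient.mk K := by
    refine CompleteLib.completion_hom_ext (maximalIdeal R) (maximalIdeal (Cpl R ⧸ K)) (IsNoetherian.noetherian _)
      _ _ ?_ fun r => ?_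
    · refine Ideal.map_le_iff_le_comap.2 fun r hr => ?_
      rw [Ideal.mem_comap]
      show τ (σ (algebraMap R (Cpl R) r)) ∈ _
      rw [hσ]
      show τ (algebraMap A (Cpl A) (π r)) ∈ _
      rw [CompleteLib.completionLift_algebraMap]
      exact hχm (Ideal.mem_map_of_mem χ fun hu => hr (isUnit_of_map_unit π r hu))
    · show τ (σ (algebraMap R (Cpl R) r)) = _
      rw [hσ, CompleteLib.completionLift_algebraMap, hχ]
  have hτs : Function.Surjective τ := fun y => by
    obtain ⟨x, rfl⟩ := Ideal.Quotient.mk_surjective y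
    exact ⟨σ x, RingHom.congr_fun hτ x⟩
  have hker : RingHom.ker σ = K := le_antisymm (fun x hx => by
    rw [← Ideal.Quotient.eq_zero_iff_mem, ← hτ, RingHom.comp_apply, RingHom.mem_ker.1 hx, map_zero]) hK
  let j : Cpl R ⧸ K →+* Cpl A := Ideal.Quotient.lift K σ fun x hx => hK hx
  have hj : j.comp τ = RingHom.id (Cpl A) := by
    refine CompleteLib.completion_hom_ext (maximalIdeal A) (maximalIdeal (Cpl A)) (IsNoetherian.noetherian _)
      _ _ ?_ fun a => ?_
    · rw [AdicCompletion.maximalIdeal_eq_map]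
      refine Ideal.map_le_iff_le_comap.2 fun a ha => ?_
      obtain ⟨r, rfl⟩ := hπ a
      rw [Ideal.mem_comap]
      show j (τ (algebraMap A (Cpl A) (π r))) ∈ _
      rw [CompleteLib.completionLift_algebraMap, hχ, Ideal.Quotient.lift_mk, hσ]
      exact Ideal.mem_map_of_mem _ ha
    · obtain ⟨r, rfl⟩ := hπ a
      show j (τ (algebraMap A (Cpl A) (π r))) = algebraMap A (Cpl A) (π r)
      rw [CompleteLib.completionLift_algebraMap, hχ, Ideal.Quotient.lift_mk, hσ]
  refine ⟨σ, fun z => ?_, hσ, hker⟩
  obtain ⟨x, hx⟩ := Ideal.Quotient.mk_surjective (τ z)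
  exact ⟨x, by rw [show σ x = j (Ideal.Quotient.mk K x) from rfl, hx, ← RingHom.comp_apply, hj]; rfl⟩

theorem spanFinrank_map_cpl (I : Ideal R) :
    (I.map (algebraMap R (Cpl R))).spanFinrank = I.spanFinrank := by
  haveI := isNoetherianRing_cpl R
  haveI := flat_cpl R
  refine le_antisymm ?_ ?_
  · obtain ⟨x, hx⟩ := exists_range_eq I
    conv_lhs => rw [← hx, Ideal.map_span, ← Set.range_comp]
    exact spanFinrank_le_of_range _
  · obtain ⟨y, hy⟩ := exists_range_eq (I.map (algebraMap R (Cpl R)))
    have hsup : ∀ z ∈ I.map (algebraMap R (Cpl R)), ∃ r ∈ I,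
        z - algebraMap R (Cpl R) r ∈ maximalIdeal (Cpl R) * I.map (algebraMap R (Cpl R)) := by
      intro z hz
      refine Submodule.span_induction (p := fun z _ => ∃ r ∈ I,
        z - algebraMap R (Cpl R) r ∈ maximalIdeal (Cpl R) * I.map (algebraMap R (Cpl R))) ?_ ?_ ?_ ?_ hz
      · rintro _ ⟨r, hr, rfl⟩
        exact ⟨r, hr, by rw [sub_self]; exact zero_mem _⟩
      · exact ⟨0, I.zero_mem, by rw [map_zero, sub_self]; exact zero_mem _⟩
      · rintro a b - - ⟨r, hr, ha⟩ ⟨t, ht, hb⟩
        exact ⟨r + t, I.add_mem hr ht, by rw [map_add, add_sub_add_comm]; exact add_mem ha hb⟩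
      · rintro c a - ⟨r, hr, ha⟩
        obtain ⟨c₀, hc₀⟩ : ∃ c₀, c - algebraMap R (Cpl R) c₀ ∈ maximalIdeal (Cpl R) := by
          obtain ⟨k, hk⟩ := (AdicCompletion.residueField_map_bijective R).2 (residue _ c)
          obtain ⟨c₀, rfl⟩ := residue_surjective k
          rw [ResidueField.map_residue] at hk
          exact ⟨c₀, (residue_eq_zero_iff _).1 (by rw [map_sub, hk, sub_self])⟩
        refine ⟨c₀ * r, I.mul_mem_left _ hr, ?_⟩
        rw [show c • a - algebraMap R (Cpl R) (c₀ * r) =
          c * (a - algebraMap R (Cpl R) r) + (c - algebraMap R (Cpl R) c₀) * algebraMap R (Cpl R) r by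
            rw [smul_eq_mul, map_mul]; ring]
        exact add_mem (Ideal.mul_mem_left _ _ ha) (Ideal.mul_mem_mul hc₀ (Ideal.mem_map_of_mem _ hr))
    choose r hr hyr using fun j => hsup (y j) (hy.le (Ideal.subset_span ⟨j, rfl⟩))
    have h1 : I.map (algebraMap R (Cpl R)) ≤ (Ideal.span (Set.range r)).map (algebraMap R (Cpl R)) := by
      refine Submodule.le_of_le_smul_of_le_jacobson_bot (IsNoetherian.noetherian _)
        (jacobson_eq_maximalIdeal ⊥ bot_ne_top).ge ?_
      conv_lhs => rw [← hy]
      refine Ideal.span_le.2 ?_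
      rintro _ ⟨j, rfl⟩
      rw [show y j = algebraMap R (Cpl R) (r j) + (y j - algebraMap R (Cpl R) (r j)) by ring]
      exact Submodule.add_mem_sup (Ideal.mem_map_of_mem _ (Ideal.subset_span ⟨j, rfl⟩)) (hyr j)
    have h2 : I = Ideal.span (Set.range r) := by
      refine le_antisymm ?_ (Ideal.span_le.2 (by rintro _ ⟨j, rfl⟩; exact hr j))
      have h3 := Ideal.comap_mono (f := algebraMap R (Cpl R)) h1
      rwa [Ideal.comap_map_eq_self_of_faithfullyFlat, Ideal.comap_map_eq_self_of_faithfullyFlat] at h3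
    conv_lhs => rw [h2]
    exact spanFinrank_le_of_range r

/-- The property can be tested before or after completing. -/
theorem hasRegKer_cplMap_iff {R : Type u} [CommRing R] [IsRegularLocalRing R] (π : R →+* A)
    (hπ : Function.Surjective π) (σ : Cpl R →+* Cpl A) (hσ : Function.Surjective σ)
    (hker : RingHom.ker σ = (RingHom.ker π).map (algebraMap R (Cpl R))) [IsRegularLocalRing (Cpl R)] :
    HasRegKer σ ↔ HasRegKer π := by
  rw [TransLib.hasRegKer_iff hσ, TransLib.hasRegKer_iff hπ, hker, spanFinrank_map_cpl,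
    CohenLib.ringKrullDim_adicCompletion A _ (maximalIdeal.isMaximal A).ne_top,
    CohenLib.ringKrullDim_adicCompletion R _ (maximalIdeal.isMaximal R).ne_top]

theorem isCompleteIntersection_iff_exists :
    Pi1.IsCompleteIntersection A ↔ ∃ (B : Type u) (_ : CommRing B) (_ : IsRegularLocalRing B)
      (π : B →+* Cpl A), Function.Surjective π ∧ HasRegKer π := by
  constructor
  · rintro ⟨B, _, _, rs, hm, hrs, ⟨e⟩⟩
    refine ⟨B, inferInstance, inferInstance, e.symm.toRingHom.comp (Ideal.Quotient.mk _),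
      e.symm.surjective.comp Ideal.Quotient.mk_surjective, rs, hrs, ?_⟩
    rw [← RingHom.comap_ker, show RingHom.ker e.symm.toRingHom = ⊥ from
      (RingHom.injective_iff_ker_eq_bot _).1 e.symm.injective, ← RingHom.ker_eq_comap_bot, Ideal.mk_ker]
  · rintro ⟨B, _, _, π, hπ, rs, hrs, hker⟩
    refine ⟨B, inferInstance, inferInstance, rs, CommAlgDim.mem_maximalIdeal_of_isRegular hrs, hrs, ⟨?_⟩⟩
    exact (RingHom.quotientKerEquivOfSurjective hπ).symm.trans (Ideal.quotEquivOfEq hker.symm)

/-- Any presentation of the completion by a regular local ring detects complete intersections. -/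
theorem isCompleteIntersection_iff_cpl {B : Type u} [CommRing B] [IsRegularLocalRing B] (π : B →+* Cpl A)
    (hπ : Function.Surjective π) : Pi1.IsCompleteIntersection A ↔ HasRegKer π := by
  rw [isCompleteIntersection_iff_exists]
  refine ⟨?_, fun h => ⟨B, inferInstance, inferInstance, π, hπ, h⟩⟩
  rintro ⟨B', _, _, π', hπ', h⟩
  exact (hasRegKer_invariant π' hπ' π hπ).1 h

/-- Any presentation of the ring itself by a regular local ring detects complete intersections. -/
theorem isCompleteIntersection_iff {B : Type u} [CommRing B] [IsRegularLocalRing B] (π : B →+* A)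
    (hπ : Function.Surjective π) : Pi1.IsCompleteIntersection A ↔ HasRegKer π := by
  obtain ⟨σ, hσ, -, hker⟩ := exists_cplMap π hπ
  haveI := (CohenLib.isRegularLocalRing_adicCompletion_iff B _ (maximalIdeal.isMaximal B).ne_top).1 ‹_›
  rw [isCompleteIntersection_iff_cpl σ hσ, hasRegKer_cplMap_iff π hπ σ hσ hker]

end CIRingLib
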