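import Groth.Agent.CIRingLib.Mor
import Groth.Agent.GorLib.Fibres
import Mathlib

/-!
# Complete intersection fibres of ring maps
-/

set_option autoImplicit false
set_option linter.style.haveILetI false

universe u

open TensorProduct IsLocalRing

namespace CIRingLib

/-- Regular local rings are complete intersections. -/
theorem isCompleteIntersection_of_regular (R : Type u) [CommRing R] [IsRegularLocalRing R] :
    Pi1.IsCompleteIntersection R := by
  refine (isCompleteIntersection_iff (RingHom.id R) Function.surjective_id).2 ⟨[], ⟨RingTheory.Sequence.IsWeaklyRegular.nil _ _, ?_⟩, ?_⟩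
  · rw [Ideal.ofList_nil, Submodule.bot_smul]
    exact top_ne_bot
  · rw [Ideal.ofList_nil]
    exact ((RingHom.injective_iff_ker_eq_bot _).1 Function.injective_id).symm

variable {R S : Type u} [CommRing R] [CommRing S] [Algebra R S]

theorem ciFib_of_fibre {p : Ideal R} [p.IsPrime] [IsNoetherianRing (p.Fiber S)]
    (hF : ∀ (P : Ideal (p.Fiber S)) [P.IsPrime], Pi1.IsCompleteIntersection (Localization.AtPrime P))
    (r : Ideal S) [r.IsPrime] (hr : r.comap (algebraMap R S) = p) :
    CIFib (Localization.localRingHom p r (algebraMap R S) hr.symm) := by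
  obtain ⟨Q, hQ⟩ : ∃ Q : PrimeSpectrum (p.Fiber S), Q.asIdeal.comap Algebra.TensorProduct.includeRight = r :=
    ⟨PrimeSpectrum.preimageEquivFiber R S ⟨p, inferInstance⟩ ⟨⟨r, inferInstance⟩, PrimeSpectrum.ext hr⟩,
      congrArg (fun x => PrimeSpectrum.asIdeal x.1)
        ((PrimeSpectrum.preimageEquivFiber R S ⟨p, inferInstance⟩).symm_apply_apply ⟨⟨r, inferInstance⟩, PrimeSpectrum.ext hr⟩)⟩
  subst hQ
  have hm := GorLib.map_maximalIdeal_localRingHom p (Q.asIdeal.comap Algebra.TensorProduct.includeRight) hr.symm
  let e := (Ideal.Fiber.algEquivAux₂ p Q.asIdeal).toRingEquiv.trans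
    ((Ideal.quotEquivOfEq (by rw [Ideal.map_map, ← IsScalarTower.algebraMap_eq])).trans (Ideal.quotEquivOfEq hm.symm))
  haveI : IsNoetherianRing (Localization.AtPrime Q.asIdeal) :=
    IsLocalization.isNoetherianRing Q.asIdeal.primeCompl _ inferInstance
  haveI hl := e.isLocalRing
  exact ⟨hl, (isCompleteIntersection_congr_iff (A := Localization.AtPrime Q.asIdeal) e).1 (hF Q.asIdeal)⟩

theorem fibre_of_ciFib {p : Ideal R} [p.IsPrime] (P : Ideal (p.Fiber S)) [P.IsPrime]
    (h : ∀ (r : Ideal S) [r.IsPrime] (hr : r.comap (algebraMap R S) = p),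
      CIFib (Localization.localRingHom p r (algebraMap R S) hr.symm)) [IsNoetherianRing (p.Fiber S)] :
    Pi1.IsCompleteIntersection (Localization.AtPrime P) := by
  have hr : (P.comap Algebra.TensorProduct.includeRight).comap (algebraMap R S) = p :=
    congrArg PrimeSpectrum.asIdeal ((PrimeSpectrum.preimageEquivFiber R S ⟨p, inferInstance⟩).symm ⟨P, inferInstance⟩).2
  obtain ⟨_, hq⟩ := h _ hr
  have hm := GorLib.map_maximalIdeal_localRingHom p (P.comap Algebra.TensorProduct.includeRight) hr.symm
  let e := (Ideal.Fiber.algEquivAux₂ p P).toRingEquiv.trans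
    ((Ideal.quotEquivOfEq (by rw [Ideal.map_map, ← IsScalarTower.algebraMap_eq])).trans (Ideal.quotEquivOfEq hm.symm))
  haveI : IsNoetherianRing (Localization.AtPrime P) :=
    IsLocalization.isNoetherianRing P.primeCompl _ inferInstance
  exact (isCompleteIntersection_congr_iff e).2 hq

theorem ci_fibre_comp_of_isRegularHom (A B C : Type u) [CommRing A] [CommRing B] [CommRing C] [IsNoetherianRing A]
    [IsNoetherianRing B] [IsNoetherianRing C] [Algebra A B] [Algebra B C] [Algebra A C] [IsScalarTower A B C]
    [Module.Flat A B] [Module.Flat B C]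
    (hAB : ∀ (q : Ideal A) [q.IsPrime] (P : Ideal (q.Fiber B)) [P.IsPrime], Pi1.IsCompleteIntersection (Localization.AtPrime P))
    (hBC : CAlg.IsRegularHom B C) (q : Ideal A) [q.IsPrime] (P : Ideal (q.Fiber C)) [P.IsPrime] :
    Pi1.IsCompleteIntersection (Localization.AtPrime P) := by
  haveI hN : ∀ (R S : Type u) [CommRing R] [CommRing S] [IsNoetherianRing S] [Algebra R S] (p : Ideal R) [p.IsPrime],
      IsNoetherianRing (p.Fiber S) := fun R S _ _ _ _ p _ => by
    haveI : IsNoetherianRing (S ⊗[R] p.ResidueField) := Algebra.EssFiniteType.isNoetherianRing S _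
    exact isNoetherianRing_of_ringEquiv _ (Algebra.TensorProduct.comm R S p.ResidueField).toRingEquiv
  haveI := hN A C q
  refine fibre_of_ciFib P fun r _ hr => ?_
  let P' := r.comap (algebraMap B C)
  have hP : P'.comap (algebraMap A B) = q := by rw [Ideal.comap_comap, ← IsScalarTower.algebraMap_eq]; exact hr
  haveI := hN A B q
  haveI := hN B C P'
  have hcomp : (Localization.localRingHom P' r (algebraMap B C) rfl).comp (Localization.localRingHom q P' (algebraMap A B) hP.symm) =
      Localization.localRingHom q r (algebraMap A C) hr.symm := by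
    refine IsLocalization.ringHom_ext q.primeCompl (RingHom.ext fun a => ?_)
    simp only [RingHom.comp_apply, Localization.localRingHom_to_map]
    rw [← IsScalarTower.algebraMap_apply A B C]
  haveI := Localization.isLocalHom_localRingHom q P' (algebraMap A B) hP.symm
  haveI := Localization.isLocalHom_localRingHom P' r (algebraMap B C) rfl
  haveI : IsNoetherianRing (Localization.AtPrime r) := IsLocalization.isNoetherianRing r.primeCompl _ inferInstance
  rw [← hcomp]
  refine (ciFib_comp _ _ (RingHom.Flat.localRingHom (RingHom.flat_algebraMap_iff.2 inferInstance) r P' rfl)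
    inferInstance).2 ⟨ciFib_of_fibre (hAB q) P' hP, ciFib_of_fibre (fun Q _ => ?_) r rfl⟩
  haveI := (hBC.2 P').2 P'.ResidueField inferInstance
  haveI : IsRegularRing (P'.Fiber C) :=
    IsRegularRing.of_ringEquiv (R := P'.ResidueField ⊗[P'.ResidueField] P'.Fiber C) (Algebra.TensorProduct.lid P'.ResidueField (P'.Fiber C)).toRingEquiv
  haveI := IsRegularRing.isRegularLocalRing_localization (R := P'.Fiber C) Q
  exact isCompleteIntersection_of_regular _

end CIRingLib
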