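import Groth.Agent.CIRingLib.Fibres
import Groth.Agent.TransLib.SyntBC
import Groth.Agent.TransLib.SyntField
import Groth.Agent.TransLib.CISpread
import Mathlib

/-!
# Complete intersections under finitely generated extensions of the base field
-/

set_option autoImplicit false
set_option linter.style.haveILetI false

universe u

open TensorProduct IsLocalRing

namespace CIRingLib

theorem ci_of_isCIOver {k : Type u} [Field k] {T : Type u} [CommRing T] [IsLocalRing T] [Algebra k T]
    [IsNoetherianRing T] (h : Synt.IsCIOver k T) : Pi1.IsCompleteIntersection T := by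
  obtain ⟨R, _, hR, _, -, rs, hm, hrs, ⟨e⟩⟩ := h
  haveI := hR
  refine (isCompleteIntersection_iff (e.symm.toRingHom.comp (Ideal.Quotient.mk (Ideal.ofList rs)))
    (e.symm.surjective.comp Ideal.Quotient.mk_surjective)).2 ⟨rs, hrs, ?_⟩
  rw [← RingHom.comap_ker, (RingHom.injective_iff_ker_eq_bot e.symm.toRingHom).1 e.symm.injective,
    ← RingHom.ker_eq_comap_bot, Ideal.mk_ker]

theorem ci_localizations_of_syntomic {k : Type u} [Field k] {T : Type u} [CommRing T] [Algebra k T]
    (h : Synt.IsSyntomic k T) (P : Ideal T) [P.IsPrime] : Pi1.IsCompleteIntersection (Localization.AtPrime P) := by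
  haveI := h.2.1
  haveI : IsNoetherianRing T := Algebra.FiniteType.isNoetherianRing k T
  obtain ⟨-, hloc⟩ := TransLib.isLCIOver_of_isSyntomic h
  obtain ⟨g, hg, hCI⟩ := hloc ⟨P, inferInstance⟩
  haveI : Algebra.FiniteType T (Localization.Away g) := IsLocalization.finiteType_of_monoid_fg (Submonoid.powers g) _
  haveI : Algebra.FiniteType k (Localization.Away g) :=
    Algebra.FiniteType.trans (inferInstance : Algebra.FiniteType k T) ‹_›
  exact ci_of_isCIOver (TransLib.isCIOver_atPrime_of_away P g hg (TransLib.isLCIOver_of_isGlobalCI hCI))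

/-- A finitely generated field extension has a model which is syntomic over the base. -/
theorem exists_model (k K : Type u) [Field k] [Field K] [Algebra k K] [Algebra.EssFiniteType k K] :
    ∃ (B : Type u) (_ : CommRing B) (_ : IsDomain B) (_ : Algebra k B) (_ : Algebra B K) (_ : IsScalarTower k B K),
      IsFractionRing B K ∧ Synt.IsSyntomic k B := by
  let A := Algebra.EssFiniteType.subalgebra k K
  let M := Algebra.EssFiniteType.submonoid k K
  haveI : IsFractionRing A K := by
    refine (isLocalization_iff _ _).2 ⟨fun y => ?_, fun z => ?_, fun {x y} hxy => ⟨1, ?_⟩⟩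
    · exact (map_ne_zero_of_mem_nonZeroDivisors _ (FaithfulSMul.algebraMap_injective A K) y.2).isUnit
    · obtain ⟨⟨a, m⟩, hm⟩ := IsLocalization.surj M z
      refine ⟨⟨a, ⟨m, mem_nonZeroDivisors_of_ne_zero fun h0 => ?_⟩⟩, hm⟩
      have := (IsLocalization.map_units K m).ne_zero
      rw [h0, map_zero] at this
      exact this rfl
    · rw [FaithfulSMul.algebraMap_injective A K hxy]
  let L := Localization.AtPrime (⊥ : Ideal A)
  have hCI : Synt.IsCIOver k L := by
    haveI : Algebra.EssFiniteType k L := Algebra.EssFiniteType.comp k A L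
    have hmax : IsLocalRing.maximalIdeal L = ⊥ := by rw [← Localization.AtPrime.map_eq_maximalIdeal, Ideal.map_bot]
    haveI : IsDomain L := IsLocalization.isDomain_of_le_nonZeroDivisors (M := (⊥ : Ideal A).primeCompl) L
      (fun x hx => mem_nonZeroDivisors_of_ne_zero hx)
    haveI : IsField L := (IsLocalRing.isField_iff_maximalIdeal_eq).2 hmax
    letI := (‹IsField L›).toField
    refine (TransLib.isCIOver_iff (AlgHom.id k L) Function.surjective_id).2
      ⟨[], ⟨RingTheory.Sequence.IsWeaklyRegular.nil _ _, ?_⟩, ?_⟩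
    · rw [Ideal.ofList_nil, Submodule.bot_smul]
      exact top_ne_bot
    · rw [Ideal.ofList_nil]
      exact ((RingHom.injective_iff_ker_eq_bot _).1 Function.injective_id).symm
  obtain ⟨g, hg, hgl⟩ := TransLib.exists_globalCI_of_isCIOver (⊥ : Ideal A) hCI
  have hg0 : g ≠ 0 := fun h => hg h
  have hle : Submonoid.powers g ≤ nonZeroDivisors A :=
    Submonoid.powers_le.2 (mem_nonZeroDivisors_of_ne_zero hg0)
  have hu : IsUnit (algebraMap A K g) :=
    (map_ne_zero_of_mem_nonZeroDivisors _ (FaithfulSMul.algebraMap_injective A K) (mem_nonZeroDivisors_of_ne_zero hg0)).isUnit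
  let B := Localization.Away g
  letI : Algebra B K := (IsLocalization.Away.lift g hu).toAlgebra
  haveI : IsScalarTower A B K := IsScalarTower.of_algebraMap_eq fun x => (IsLocalization.Away.lift_eq g hu x).symm
  haveI : IsScalarTower k B K := IsScalarTower.to₁₃₄ k A B K
  haveI : IsDomain B := IsLocalization.isDomain_of_le_nonZeroDivisors (M := Submonoid.powers g) B hle
  exact ⟨B, inferInstance, inferInstance, inferInstance, inferInstance, inferInstance,
    IsFractionRing.isFractionRing_of_isDomain_of_isLocalization (Submonoid.powers g) B K,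
    TransLib.isSyntomic_of_isGlobalCI hgl⟩

theorem ci_tensor_fieldExt (k K R : Type u) [Field k] [Field K] [Algebra k K] [Algebra.EssFiniteType k K]
    [CommRing R] [Algebra k R] [IsNoetherianRing R]
    (hR : ∀ (p : Ideal R) [p.IsPrime], Pi1.IsCompleteIntersection (Localization.AtPrime p)) :
    IsNoetherianRing (K ⊗[k] R) ∧
      ∀ (P : Ideal (K ⊗[k] R)) [P.IsPrime], Pi1.IsCompleteIntersection (Localization.AtPrime P) := by
  obtain ⟨B, _, _, _, _, _, hfr, hsyn⟩ := exists_model k K
  haveI := hfr
  haveI : Module.Flat k B := hsyn.1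
  haveI := hsyn.2.1
  haveI : IsNoetherianRing (R ⊗[k] B) := Algebra.FiniteType.isNoetherianRing R _
  letI : Algebra (R ⊗[k] B) (R ⊗[k] K) :=
    (Algebra.TensorProduct.map (AlgHom.id R R) (IsScalarTower.toAlgHom k B K)).toAlgebra
  haveI : IsScalarTower R (R ⊗[k] B) (R ⊗[k] K) := IsScalarTower.of_algebraMap_eq fun x => by
    show x ⊗ₜ (1 : K) = Algebra.TensorProduct.map (AlgHom.id R R) (IsScalarTower.toAlgHom k B K) (x ⊗ₜ 1)
    rw [Algebra.TensorProduct.map_tmul, map_one]
    rfl
  let M := (nonZeroDivisors B).map (Algebra.TensorProduct.includeRight (R := k) (A := R))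
  haveI : IsLocalization M (R ⊗[k] K) := IsLocalization.tensorProduct_tensorProduct_right k R (nonZeroDivisors B) K
    (RingHom.ext fun b => by
      show Algebra.TensorProduct.map (AlgHom.id R R) (IsScalarTower.toAlgHom k B K) (1 ⊗ₜ b) = _
      rw [Algebra.TensorProduct.map_tmul, map_one]
      rfl)
  haveI : IsNoetherianRing (R ⊗[k] K) := IsLocalization.isNoetherianRing M _ inferInstance
  let e : R ⊗[k] K ≃+* K ⊗[k] R := (Algebra.TensorProduct.comm k R K).toRingEquiv
  haveI hN : IsNoetherianRing (K ⊗[k] R) := isNoetherianRing_of_ringEquiv _ e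
  refine ⟨hN, fun P _ => ?_⟩
  let P₁ : Ideal (R ⊗[k] K) := P.comap e.toRingHom
  haveI : P₁.IsPrime := Ideal.comap_isPrime e.toRingHom P
  haveI : IsNoetherianRing (Localization.AtPrime P₁) := IsLocalization.isNoetherianRing P₁.primeCompl _ inferInstance
  refine (isCompleteIntersection_congr_iff (Localization.localRingEquiv P₁ P e rfl)).1 ?_
  let P₀ : Ideal (R ⊗[k] B) := P₁.comap (algebraMap (R ⊗[k] B) (R ⊗[k] K))
  haveI : IsNoetherianRing (Localization.AtPrime P₀) := IsLocalization.isNoetherianRing P₀.primeCompl _ inferInstance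
  haveI : IsLocalization.AtPrime (Localization.AtPrime P₁) P₀ :=
    IsLocalization.isLocalization_isLocalization_atPrime_isLocalization M _ P₁
  refine (isCompleteIntersection_congr_iff
    (IsLocalization.algEquiv P₀.primeCompl (Localization.AtPrime P₀) (Localization.AtPrime P₁)).toRingEquiv).1 ?_
  let Q := P₀.comap (algebraMap R (R ⊗[k] B))
  haveI : IsNoetherianRing (Q.Fiber (R ⊗[k] B)) := by
    haveI : Algebra.FiniteType R (R ⊗[k] B) := inferInstance
    exact Algebra.FiniteType.isNoetherianRing Q.ResidueField _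
  let E : Q.Fiber (R ⊗[k] B) ≃ₐ[Q.ResidueField] Q.ResidueField ⊗[k] B :=
    Algebra.TensorProduct.cancelBaseChange k R Q.ResidueField Q.ResidueField B
  have hF := ciFib_of_fibre (R := R) (S := R ⊗[k] B) (p := Q) (fun P' _ => by
    exact ci_localizations_of_syntomic (TransLib.isSyntomic_congr E.symm
      (TransLib.isSyntomic_baseChange Q.ResidueField hsyn)) P') P₀ rfl
  obtain ⟨_, hq⟩ := hF
  letI := (Localization.localRingHom Q P₀ (algebraMap R (R ⊗[k] B)) rfl).toAlgebra
  haveI : IsLocalHom (algebraMap (Localization.AtPrime Q) (Localization.AtPrime P₀)) :=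
    Localization.isLocalHom_localRingHom Q P₀ (algebraMap R (R ⊗[k] B)) rfl
  haveI : Module.Flat (Localization.AtPrime Q) (Localization.AtPrime P₀) :=
    RingHom.Flat.localRingHom (RingHom.flat_algebraMap_iff.2 inferInstance) P₀ Q rfl
  haveI : IsNoetherianRing (Localization.AtPrime Q) := IsLocalization.isNoetherianRing Q.primeCompl _ inferInstance
  exact isCompleteIntersection_iff_of_flat.2 ⟨hR Q, hq⟩

end CIRingLib
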