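import Groth.Agent.CIRingLib.Presentation
import Groth.Agent.CIRingLib.Completion
import Groth.Agent.CILib.MinGen
import Groth.Agent.TransLib.RelField
import Groth.Agent.CatLib.Flat
import Groth.Agent.S2836
import Groth.Agent.S2841
import Groth.Agent.S5033
import Groth.Agent.S5774
import Groth.Agent.S0548
import Groth.Prelude.Def_CInt
import Mathlib

/-!
# Factorisations through flat algebras with regular closed fibre
-/

set_option autoImplicit false
set_option linter.style.haveILetI false

noncomputable section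

universe u

open RingTheory.Sequence IsLocalRing CInt

namespace CIRingLib

theorem isRegularIdeal_map_equiv {T S : Type u} [CommRing T] [CommRing S] (e : T ≃+* S) {I : Ideal T}
    (h : IsRegularIdeal I) : IsRegularIdeal (I.map e) := by
  obtain ⟨rs, hrs, rfl⟩ := h
  exact ⟨rs.map e, TransLib.isRegular_of_ringEquiv e hrs, (Ideal.map_ofList e.toRingHom rs).symm⟩

theorem isRegularIdeal_iff_exists {T : Type u} [CommRing T] (I : Ideal T) :
    IsRegularIdeal I ↔ ∃ rs : List T, Ideal.ofList rs = I ∧ IsRegular T rs :=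
  exists_congr fun _ => and_comm

/-- An element of a regular ideal outside `m` times the ideal can be the first member of a regular
generating sequence. -/
theorem isRegularIdeal_drop_one {T : Type u} [CommRing T] [IsNoetherianRing T] [IsLocalRing T] {K : Ideal T}
    (hK : IsRegularIdeal K) {x : T} (hx : x ∈ K) (hxm : x ∉ maximalIdeal T * K) :
    IsRegularIdeal (K.map (Ideal.Quotient.mk (Ideal.span {x}))) := by
  classical
  obtain ⟨rs, hrs, rfl⟩ := hK
  obtain ⟨r, z, rfl⟩ : ∃ (r : ℕ) (z : Fin r → T), rs = List.ofFn z := ⟨_, rs.get, (List.ofFn_get rs).symm⟩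
  rw [CILib.ofList_ofFn] at hx hxm ⊢
  obtain ⟨c, hc⟩ := (Ideal.mem_span_range_iff_exists_fun (R := T)).1 hx
  obtain ⟨k, hk⟩ : ∃ k, c k ∉ maximalIdeal T := by
    by_contra hall
    push Not at hall
    exact hxm (hc ▸ sum_mem fun i _ => Ideal.mul_mem_mul (hall i) (Ideal.subset_span ⟨i, rfl⟩))
  match r, z, c, k, hc, hk with
  | r + 1, z, c, k, hc, hk =>
    let y : Fin (r + 1) → T := Fin.cons x fun i => z (k.succAbove i)
    have hy : Ideal.span (Set.range y) = Ideal.span (Set.range z) := by
      refine le_antisymm (Ideal.span_le.2 ?_) (Ideal.span_le.2 ?_)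
      · rintro _ ⟨i, rfl⟩
        refine Fin.cases ?_ (fun i => ?_) i
        · exact hx
        · exact Ideal.subset_span ⟨_, rfl⟩
      · rintro _ ⟨i, rfl⟩
        rcases Fin.eq_self_or_eq_succAbove k i with rfl | ⟨j, rfl⟩
        · have h1 : c i * z i ∈ Ideal.span (Set.range y) := by
            rw [show c i * z i = x - ∑ j, c (i.succAbove j) * z (i.succAbove j) by
              rw [← hc, Fin.sum_univ_succAbove _ i, add_sub_cancel_right]]
            exact sub_mem (Ideal.subset_span ⟨0, rfl⟩)
              (sum_mem fun j _ => Ideal.mul_mem_left _ _ (Ideal.subset_span ⟨j.succ, rfl⟩))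
          exact (Ideal.unit_mul_mem_iff_mem _ (notMem_maximalIdeal.1 hk)).1 h1
        · exact Ideal.subset_span ⟨j.succ, rfl⟩
    have hyr := CILib.isRegular_of_span_eq _ T z y hrs hy
    rw [List.ofFn_succ, show y 0 = x from rfl] at hyr
    obtain ⟨-, h6⟩ := CommAlgDim.isRegular_cons_ring.1 hyr
    refine ⟨_, h6, ?_⟩
    rw [← Ideal.map_ofList, CILib.ofList_ofFn, ← hy]
    refine le_antisymm (Ideal.map_mono (Ideal.span_mono ?_)) (Ideal.map_le_iff_le_comap.2 (Ideal.span_le.2 ?_))
    · rintro _ ⟨i, rfl⟩; exact ⟨_, rfl⟩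
    · rintro _ ⟨i, rfl⟩
      refine Fin.cases ?_ (fun i => Ideal.mem_map_of_mem _ (Ideal.subset_span ⟨i, rfl⟩)) i
      rw [SetLike.mem_coe, Ideal.mem_comap,
        Ideal.Quotient.eq_zero_iff_mem.2 (show y 0 ∈ Ideal.span {x} from Ideal.mem_span_singleton_self x)]
      exact zero_mem _

/-- Part of a minimal system of generators of a regular ideal can be divided out. -/
theorem isRegularIdeal_map_of_indep : ∀ (c : ℕ) {T S : Type u} [CommRing T] [CommRing S] [IsNoetherianRing T]
    [IsLocalRing T] {K : Ideal T}, IsRegularIdeal K → ∀ x : Fin c → T, (∀ i, x i ∈ K) →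
      (∀ a : Fin c → T, ∑ i, a i * x i ∈ maximalIdeal T * K → ∀ i, a i ∈ maximalIdeal T) →
      ∀ q : T →+* S, Function.Surjective q → RingHom.ker q = Ideal.span (Set.range x) →
        IsRegularIdeal (K.map q)
  | 0, T, S, _, _, _, _, K, hK, x, _, _, q, hq, hker => by
    have hb : Function.Bijective q := ⟨(RingHom.injective_iff_ker_eq_bot q).2 (by simp [hker]), hq⟩
    exact isRegularIdeal_map_equiv (RingEquiv.ofBijective q hb) hK
  | c + 1, T, S, _, _, _, _, K, hK, x, hxK, hind, q, hq, hker => by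
    classical
    have hx0 : x 0 ∉ maximalIdeal T * K := fun h => by
      have h1 := hind (Function.update 0 0 1) (by simpa [Function.update_apply] using h) 0
      rw [Function.update_self] at h1
      exact (maximalIdeal.isMaximal T).ne_top ((Ideal.eq_top_iff_one _).2 h1)
    have h1 := isRegularIdeal_drop_one hK (hxK 0) hx0
    let π := Ideal.Quotient.mk (Ideal.span {x 0})
    have hx0m : x 0 ∈ maximalIdeal T := by
      obtain ⟨rs, hrs, he⟩ := hK
      exact le_maximalIdeal (fun ht => hrs.top_ne_smul (by rw [ht]; simp)) (he ▸ hxK 0)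
    haveI := CommAlgDim.nontrivial_quotient (CommAlgDim.singleton_ne_top hx0m)
    haveI : IsLocalRing (T ⧸ Ideal.span {x 0}) := IsLocalRing.of_surjective' π Ideal.Quotient.mk_surjective
    have hle : Ideal.span {x 0} ≤ RingHom.ker q := by
      rw [hker]; exact Ideal.span_mono (by simp)
    let q₁ := Ideal.Quotient.lift (Ideal.span {x 0}) q fun a ha => hle ha
    rw [show K.map q = (K.map π).map q₁ by rw [Ideal.map_map, Ideal.Quotient.lift_comp_mk]]
    refine isRegularIdeal_map_of_indep c h1 (fun i => π (x i.succ)) (fun i => Ideal.mem_map_of_mem π (hxK _))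
      ?_ q₁ (Ideal.Quotient.lift_surjective_of_surjective _ _ hq) ?_
    · intro a ha i
      choose b hb using fun j => Ideal.Quotient.mk_surjective (a j)
      have ha' : π (∑ j, b j * x j.succ) ∈ (maximalIdeal T * K).map π := by
        rw [Ideal.map_mul, IsLocalRing.map_maximalIdeal_of_surjective π Ideal.Quotient.mk_surjective, map_sum]
        simpa only [map_mul, π, hb] using ha
      obtain ⟨w, hw, hwe⟩ := (Ideal.mem_map_iff_of_surjective π Ideal.Quotient.mk_surjective).1 ha'
      obtain ⟨d, hd⟩ := Ideal.mem_span_singleton'.1 (Ideal.Quotient.eq.1 hwe)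
      have h2 := hind (Fin.cons d b) (by
        rw [Fin.sum_univ_succ]
        simp only [Fin.cons_zero, Fin.cons_succ]
        rw [hd, sub_add_cancel]
        exact hw) i.succ
      rw [Fin.cons_succ] at h2
      rw [← hb i, ← IsLocalRing.map_maximalIdeal_of_surjective π Ideal.Quotient.mk_surjective]
      exact Ideal.mem_map_of_mem π h2
    · rw [show (fun i : Fin c => π (x i.succ)) = π ∘ fun i : Fin c => x i.succ from rfl, Set.range_comp,
        ← Ideal.map_span]
      have hk : (RingHom.ker q).map π = RingHom.ker q₁ := by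
        refine le_antisymm (Ideal.map_le_iff_le_comap.2 fun a ha => ha) fun a ha => ?_
        obtain ⟨b, rfl⟩ := Ideal.Quotient.mk_surjective a
        exact Ideal.mem_map_of_mem π ha
      rw [← hk, hker]
      refine le_antisymm (Ideal.map_le_iff_le_comap.2 (Ideal.span_le.2 ?_)) (Ideal.map_mono (Ideal.span_mono ?_))
      · rintro _ ⟨i, rfl⟩
        refine Fin.cases ?_ (fun i => Ideal.mem_map_of_mem π (Ideal.subset_span ⟨i, rfl⟩)) i
        rw [SetLike.mem_coe, Ideal.mem_comap, Ideal.Quotient.eq_zero_iff_mem.2 (Ideal.mem_span_singleton_self _)]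
        exact zero_mem _
      · rintro _ ⟨i, rfl⟩; exact ⟨_, rfl⟩

/-- The kernel of a surjection onto a flat algebra meets `mT` only in `m` times itself. -/
theorem ker_inf_map_le {A T S : Type u} [CommRing A] [CommRing T] [CommRing S] [Algebra A T] [Algebra A S]
    [Module.Flat A S] (q : T →ₐ[A] S) (hq : Function.Surjective q) (m : Ideal A) :
    RingHom.ker q.toRingHom ⊓ m.map (algebraMap A T) ≤ m.map (algebraMap A T) * RingHom.ker q.toRingHom := by
  classical
  rintro x ⟨hxJ, hxm⟩
  obtain ⟨k, a, s, hxs⟩ := Submodule.mem_span_set'.1 hxm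
  choose r hr hrs using fun i => (s i).2
  have hx' : ∑ i, algebraMap A T (r i) * a i = x := by
    rw [← hxs]
    exact Finset.sum_congr rfl fun i _ => by rw [smul_eq_mul, hrs, mul_comm]
  have h0 : ∑ i, r i • q (a i) = 0 := by
    rw [← RingHom.mem_ker.1 hxJ, ← hx']
    simp [Algebra.smul_def]
  obtain ⟨l, c, y, hy, hc⟩ := Module.Flat.isTrivialRelation_of_sum_smul_eq_zero (R := A) (M := S) h0
  dsimp only at hy hc
  choose y' hy' using fun j => hq (y j)
  have hj : ∀ i, a i - ∑ j, algebraMap A T (c i j) * y' j ∈ RingHom.ker q.toRingHom := fun i => by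
    rw [RingHom.mem_ker]
    simp [hy i, hy', Algebra.smul_def]
  have he : x = ∑ i, algebraMap A T (r i) * (a i - ∑ j, algebraMap A T (c i j) * y' j) := by
    simp only [mul_sub, Finset.sum_sub_distrib, Finset.mul_sum]
    rw [hx', Finset.sum_comm, eq_comm, sub_eq_self]
    refine Finset.sum_eq_zero fun j _ => ?_
    simp only [← mul_assoc, ← Finset.sum_mul, ← map_mul, ← map_sum, hc j, map_zero, zero_mul]
  rw [he]
  exact sum_mem fun i _ => Ideal.mul_mem_mul (Ideal.mem_map_of_mem _ (hr i)) (hj i)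

variable {A : Type u} [CommRing A] [IsNoetherianRing A] [IsLocalRing A]

/-- A surjection of flat algebras with regular closed fibres is cut out by part of a system of parameters of
the closed fibre. -/
theorem exists_gens_of_good {T S : Type u} [CommRing T] [CommRing S] [IsNoetherianRing T] [IsLocalRing T]
    [IsLocalRing S] [Algebra A T] [Algebra A S] [IsLocalHom (algebraMap A T)]
    [Module.Flat A T] [Module.Flat A S]
    [IsRegularLocalRing (T ⧸ (maximalIdeal A).map (algebraMap A T))]
    [IsRegularLocalRing (S ⧸ (maximalIdeal A).map (algebraMap A S))]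
    (q : T →ₐ[A] S) (hq : Function.Surjective q) :
    ∃ (c : ℕ) (x : Fin c → T), IsRegular T (List.ofFn x) ∧
      Ideal.span (Set.range x) = RingHom.ker q.toRingHom ∧
      ∀ a : Fin c → T, ∑ i, a i * x i ∈ maximalIdeal T * maximalIdeal T → ∀ i, a i ∈ maximalIdeal T := by
  classical
  let M₀ := (maximalIdeal A).map (algebraMap A T)
  let J := RingHom.ker q.toRingHom
  let Jb := J.map (Ideal.Quotient.mk M₀)
  have hm : M₀ ≤ maximalIdeal T := ((local_hom_TFAE (algebraMap A T)).out 0 2).1 ‹_›
  have hJ : J ≤ maximalIdeal T := le_maximalIdeal (RingHom.ker_ne_top q.toRingHom)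
  have hSm : M₀.map q.toRingHom = (maximalIdeal A).map (algebraMap A S) := by
    rw [Ideal.map_map]
    exact congrArg (Ideal.map · _) (RingHom.ext q.commutes)
  haveI hquot : IsRegularLocalRing ((T ⧸ M₀) ⧸ Jb) := by
    let θ : T →+* S ⧸ (maximalIdeal A).map (algebraMap A S) := (Ideal.Quotient.mk _).comp q.toRingHom
    have hθ : Function.Surjective θ := Ideal.Quotient.mk_surjective.comp hq
    have hk : RingHom.ker θ = M₀ ⊔ J := by
      rw [RingHom.ker_eq_comap_bot, ← Ideal.comap_comap, ← RingHom.ker_eq_comap_bot, Ideal.mk_ker, ← hSm,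
        Ideal.comap_map_of_surjective q.toRingHom hq, ← RingHom.ker_eq_comap_bot]
    exact IsRegularLocalRing.of_ringEquiv (((DoubleQuot.quotQuotEquivQuotSup M₀ J).trans
      (Ideal.quotEquivOfEq hk.symm)).trans (RingHom.quotientKerEquivOfSurjective hθ)).symm
  obtain ⟨rs, hrs, hrsJ⟩ := (Groth.Agent.S5033.result (T ⧸ M₀) Jb).1 inferInstance
  obtain ⟨c, xb, rfl⟩ : ∃ (c : ℕ) (xb : Fin c → T ⧸ M₀), rs = List.ofFn xb :=
    ⟨_, rs.get, (List.ofFn_get rs).symm⟩
  rw [CILib.ofList_ofFn] at hrsJ
  have hxJ : ∀ i, ∃ x ∈ J, Ideal.Quotient.mk M₀ x = xb i := fun i =>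
    (Ideal.mem_map_iff_of_surjective _ Ideal.Quotient.mk_surjective).1 (hrsJ.le (Ideal.subset_span ⟨i, rfl⟩))
  choose x hxJ hxb using hxJ
  have hmap : (List.ofFn x).map (algebraMap T (T ⧸ M₀)) = List.ofFn xb := by
    rw [List.map_ofFn]
    exact congrArg List.ofFn (funext hxb)
  have hw : IsWeaklyRegular (T ⧸ M₀) (List.ofFn x) :=
    (isWeaklyRegular_map_algebraMap_iff (T ⧸ M₀) (T ⧸ M₀) (List.ofFn x)).1 (hmap ▸ hrs.toIsWeaklyRegular)
  have hxm : ∀ r ∈ List.ofFn x, r ∈ maximalIdeal T := fun r hr => by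
    obtain ⟨i, rfl⟩ := List.mem_ofFn.1 hr
    exact hJ (hxJ i)
  have hreg : IsRegular T (List.ofFn x) := by
    refine IsRegular.of_isWeaklyRegular_of_mem_maximalIdeal T hxm ?_
    refine (Groth.Agent.S5774.result A T T (List.ofFn x) ?_).1
    exact ((Submodule.quotEquivOfEq _ _ (by rw [smul_eq_mul, Ideal.mul_top])).isWeaklyRegular_congr _).2 hw
  have hspan : Ideal.span (Set.range x) = J := by
    refine le_antisymm (Ideal.span_le.2 (by rintro _ ⟨i, rfl⟩; exact hxJ i)) ?_
    refine Submodule.le_of_le_smul_of_le_jacobson_bot (IsNoetherian.noetherian _)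
      (jacobson_eq_maximalIdeal ⊥ bot_ne_top).ge ?_
    intro z hz
    have hzb : Ideal.Quotient.mk M₀ z ∈ (Ideal.span (Set.range x)).map (Ideal.Quotient.mk M₀) := by
      rw [Ideal.map_span, ← Set.range_comp, show Ideal.Quotient.mk M₀ ∘ x = xb from funext hxb, hrsJ]
      exact Ideal.mem_map_of_mem _ hz
    obtain ⟨w, hw, hwz⟩ := (Ideal.mem_map_iff_of_surjective _ Ideal.Quotient.mk_surjective).1 hzb
    have hzw : z - w ∈ J ⊓ M₀ :=
      ⟨J.sub_mem hz (Ideal.span_le.2 (by rintro _ ⟨i, rfl⟩; exact hxJ i) hw), Ideal.Quotient.eq.1 hwz.symm⟩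
    rw [show z = w + (z - w) by ring]
    exact Submodule.add_mem_sup hw (Ideal.mul_mono_left hm (ker_inf_map_le q hq _ hzw))
  refine ⟨c, x, hreg, hspan, fun a ha k => ?_⟩
  by_contra hk
  -- the closed fibre would then need fewer parameters
  match c, x, xb, a, k, hrs, hrsJ, hxb, ha, hk with
  | c + 1, x, xb, a, k, hrs, hrsJ, hxb, ha, hk =>
    obtain ⟨y, hy⟩ := CIRingLib.exists_range_eq (maximalIdeal ((T ⧸ M₀) ⧸ Jb))
    choose y' hy' using fun i => Ideal.Quotient.mk_surjective (y i)
    let g := Fin.append y' fun i => xb (k.succAbove i)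
    have hgm : ∀ i, g i ∈ maximalIdeal (T ⧸ M₀) := fun i => by
      refine Fin.addCases (fun i => ?_) (fun i => ?_) i
      · simp only [g, Fin.append_left]
        intro hu
        have hu' := hu.map (Ideal.Quotient.mk Jb)
        rw [hy'] at hu'
        exact (show y i ∈ maximalIdeal _ from hy.le (Ideal.subset_span ⟨i, rfl⟩)) hu'
      · simp only [g, Fin.append_right]
        exact CommAlgDim.mem_maximalIdeal_of_isRegular hrs _ (List.mem_ofFn.2 ⟨_, rfl⟩)
    have hle : maximalIdeal (T ⧸ M₀) ≤
        Ideal.span (Set.range g) ⊔ maximalIdeal (T ⧸ M₀) • maximalIdeal (T ⧸ M₀) := by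
      have hxk : xb k ∈ Ideal.span (Set.range g) ⊔ maximalIdeal (T ⧸ M₀) • maximalIdeal (T ⧸ M₀) := by
        have h1 : Ideal.Quotient.mk M₀ (∑ i, a i * x i) ∈
            maximalIdeal (T ⧸ M₀) • maximalIdeal (T ⧸ M₀) := by
          rw [smul_eq_mul, ← IsLocalRing.map_maximalIdeal_of_surjective (Ideal.Quotient.mk M₀)
            Ideal.Quotient.mk_surjective, ← Ideal.map_mul]
          exact Ideal.mem_map_of_mem _ ha
        rw [map_sum, Fin.sum_univ_succAbove _ k] at h1
        simp only [map_mul, hxb] at h1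
        refine (Ideal.unit_mul_mem_iff_mem _ ((notMem_maximalIdeal.1 hk).map (Ideal.Quotient.mk M₀))).1 ?_
        rw [← add_sub_cancel_right (Ideal.Quotient.mk M₀ (a k) * xb k)
          (∑ i, Ideal.Quotient.mk M₀ (a (k.succAbove i)) * xb (k.succAbove i))]
        exact sub_mem (Ideal.mem_sup_right h1) (Ideal.mem_sup_left (sum_mem fun i _ =>
          Ideal.mul_mem_left _ _ (Ideal.subset_span ⟨Fin.natAdd _ i, Fin.append_right _ _ i⟩)))
      have hJb : Jb ≤ Ideal.span (Set.range g) ⊔ maximalIdeal (T ⧸ M₀) • maximalIdeal (T ⧸ M₀) := by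
        refine hrsJ.ge.trans (Ideal.span_le.2 ?_)
        rintro _ ⟨i, rfl⟩
        rcases Fin.eq_self_or_eq_succAbove k i with rfl | ⟨j, rfl⟩
        · exact hxk
        · exact Ideal.mem_sup_left (Ideal.subset_span ⟨Fin.natAdd _ j, Fin.append_right _ _ j⟩)
      intro z hz
      have hz' : Ideal.Quotient.mk Jb z ∈ (Ideal.span (Set.range y')).map (Ideal.Quotient.mk Jb) := by
        rw [Ideal.map_span, ← Set.range_comp, show Ideal.Quotient.mk Jb ∘ y' = y from funext hy', hy,
          ← IsLocalRing.map_maximalIdeal_of_surjective (Ideal.Quotient.mk Jb) Ideal.Quotient.mk_surjective]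
        exact Ideal.mem_map_of_mem _ hz
      obtain ⟨w, hw, hwz⟩ := (Ideal.mem_map_iff_of_surjective _ Ideal.Quotient.mk_surjective).1 hz'
      rw [show z = w + (z - w) by ring]
      refine add_mem (Ideal.mem_sup_left (Ideal.span_mono ?_ hw)) (hJb (Ideal.Quotient.eq.1 hwz.symm))
      rintro _ ⟨i, rfl⟩
      exact ⟨Fin.castAdd _ i, Fin.append_left _ _ i⟩
    have hgen : maximalIdeal (T ⧸ M₀) = Ideal.span (Set.range g) :=
      le_antisymm (Submodule.le_of_le_smul_of_le_jacobson_bot (IsNoetherian.noetherian _)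
        (jacobson_eq_maximalIdeal ⊥ bot_ne_top).ge hle)
        (Ideal.span_le.2 (by rintro _ ⟨i, rfl⟩; exact hgm i))
    have hcount := spanFinrank_le_of_range g
    rw [← hgen] at hcount
    have hdim := ringKrullDim_add_length_eq_ringKrullDim_of_isRegular _ hrs
    rw [CILib.ofList_ofFn, hrsJ, List.length_ofFn, ← IsRegularLocalRing.spanFinrank_maximalIdeal (R := T ⧸ M₀),
      ← IsRegularLocalRing.spanFinrank_maximalIdeal (R := (T ⧸ M₀) ⧸ Jb)] at hdim
    norm_cast at hdim
    omega

/-- Regularity of the kernel is not affected by a good surjection. -/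
theorem isRegularIdeal_ker_comp_iff {T S B : Type u} [CommRing T] [CommRing S] [CommRing B] [Nontrivial B]
    [IsNoetherianRing T] [IsLocalRing T]
    [IsLocalRing S] [Algebra A T] [Algebra A S] [IsLocalHom (algebraMap A T)]
    [Module.Flat A T] [Module.Flat A S]
    [IsRegularLocalRing (T ⧸ (maximalIdeal A).map (algebraMap A T))]
    [IsRegularLocalRing (S ⧸ (maximalIdeal A).map (algebraMap A S))]
    (q : T →ₐ[A] S) (hq : Function.Surjective q) (g : S →+* B) :
    IsRegularIdeal (RingHom.ker (g.comp q.toRingHom)) ↔ IsRegularIdeal (RingHom.ker g) := by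
  obtain ⟨c, x, hreg, hspan, hind⟩ := exists_gens_of_good q hq
  have hK : RingHom.ker (g.comp q.toRingHom) ≤ maximalIdeal T :=
    le_maximalIdeal (RingHom.ker_ne_top _)
  have hJK : RingHom.ker q.toRingHom ≤ RingHom.ker (g.comp q.toRingHom) := fun a ha => by
    rw [RingHom.mem_ker, RingHom.comp_apply, RingHom.mem_ker.1 ha, map_zero]
  have hmap : (RingHom.ker (g.comp q.toRingHom)).map q.toRingHom = RingHom.ker g := by
    rw [RingHom.ker_eq_comap_bot (g.comp q.toRingHom), ← Ideal.comap_comap, Ideal.map_comap_of_surjective q.toRingHom hq,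
      ← RingHom.ker_eq_comap_bot]
  constructor
  · intro h
    rw [← hmap]
    exact isRegularIdeal_map_of_indep c h x (fun i => hJK (hspan.le (Ideal.subset_span ⟨i, rfl⟩)))
      (fun a ha => hind a (Ideal.mul_mono_right hK ha)) q.toRingHom hq hspan.symm
  · intro h
    refine Groth.Agent.S2836.result T _ _ hJK hK ⟨_, hreg, (CILib.ofList_ofFn x).trans hspan⟩ ?_
    let e := RingHom.quotientKerEquivOfSurjective (f := q.toRingHom) hq
    have he : e.toRingHom.comp (Ideal.Quotient.mk (RingHom.ker q.toRingHom)) = q.toRingHom :=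
      RingHom.ext fun a => rfl
    have h1 : ((RingHom.ker (g.comp q.toRingHom)).map (Ideal.Quotient.mk (RingHom.ker q.toRingHom))).map e
        = RingHom.ker g := by
      rw [← hmap]
      conv_rhs => rw [← he, ← Ideal.map_map]
      rfl
    have h2 := isRegularIdeal_map_equiv e.symm h
    rwa [← h1, show ∀ I : Ideal (T ⧸ RingHom.ker q.toRingHom), (I.map e).map e.symm = I from
      fun I => Ideal.map_of_equiv e] at h2

/-- Independence of the factorisation, all rings complete. -/
theorem isRegularIdeal_ker_iff_of_complete {B S S' : Type u} [CommRing B] [CommRing S] [CommRing S']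
    [IsNoetherianRing S] [IsNoetherianRing S'] [IsLocalRing B] [IsLocalRing S] [IsLocalRing S']
    [IsAdicComplete (maximalIdeal A) A] [IsAdicComplete (maximalIdeal S) S]
    [IsAdicComplete (maximalIdeal S') S'] [Algebra A B] [Algebra A S] [Algebra A S']
    [IsLocalHom (algebraMap A B)] [Module.Flat A S] [Module.Flat A S']
    [IsRegularLocalRing (S ⧸ (maximalIdeal A).map (algebraMap A S))]
    [IsRegularLocalRing (S' ⧸ (maximalIdeal A).map (algebraMap A S'))]
    (g : S →ₐ[A] B) (g' : S' →ₐ[A] B) (hg : Function.Surjective g) (hg' : Function.Surjective g') :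
    IsRegularIdeal (RingHom.ker g.toRingHom) ↔ IsRegularIdeal (RingHom.ker g'.toRingHom) := by
  classical
  haveI : IsLocalHom g.toRingHom := IsLocalHom.of_surjective _ hg
  haveI : IsLocalHom g'.toRingHom := IsLocalHom.of_surjective _ hg'
  obtain ⟨_, hN, hC⟩ := Groth.Agent.S2841.result g.toRingHom g'.toRingHom hg hg'
  haveI := hN
  haveI := hC
  let C := g.toRingHom.pullback g'.toRingHom
  let ψ : A →+* C := ((algebraMap A S).prod (algebraMap A S')).codRestrict C fun a =>
    (g.commutes a).trans (g'.commutes a).symm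
  haveI hψ : IsLocalHom ψ := ⟨fun a ha => by
    have h1 := ha.map (g.toRingHom.comp ((RingHom.fst S S').comp C.subtype))
    refine isUnit_of_map_unit (algebraMap A B) a ?_
    rw [← g.commutes a]
    exact h1⟩
  obtain ⟨Λ, Λ', _, _, _, _, n, N, ρ, σ, τ, -, hρ, hσ, hcomp, hflat, hτ, hP, hQ, hfib⟩ :=
    exists_presentation ψ
  let P := MvPowerSeries (Fin n) Λ
  let Q := MvPowerSeries (Fin N) Λ'
  letI : Algebra P Q := τ.toAlgebra
  haveI : Module.Flat P Q := hflat
  let I₀ := (RingHom.ker ρ).map (algebraMap P Q)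
  let e := RingHom.quotientKerEquivOfSurjective hρ
  let φ : A →+* Q ⧸ I₀ := (algebraMap (P ⧸ RingHom.ker ρ) (Q ⧸ I₀)).comp e.symm.toRingHom
  have hI₀ : I₀ ≤ RingHom.ker σ := Ideal.map_le_iff_le_comap.2 fun r hr => by
    rw [Ideal.mem_comap, RingHom.mem_ker, show σ (algebraMap P Q r) = ψ (ρ r) from RingHom.congr_fun hcomp r,
      RingHom.mem_ker.1 hr, map_zero]
  let h : Q ⧸ I₀ →+* C := Ideal.Quotient.lift I₀ σ fun a ha => hI₀ ha
  have hh : Function.Surjective h := Ideal.Quotient.lift_surjective_of_surjective _ _ hσ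
  have hφρ : ∀ r, φ (ρ r) = Ideal.Quotient.mk I₀ (τ r) := fun r => by
    show algebraMap (P ⧸ RingHom.ker ρ) (Q ⧸ I₀) (e.symm (ρ r)) = _
    rw [show e.symm (ρ r) = Ideal.Quotient.mk _ r from (RingEquiv.symm_apply_eq _).2 rfl]
    rfl
  have hφ : h.comp φ = ψ := RingHom.ext fun a => by
    obtain ⟨r, rfl⟩ := hρ a
    rw [RingHom.comp_apply, hφρ, Ideal.Quotient.lift_mk]
    exact RingHom.congr_fun hcomp r
  letI : Algebra A (Q ⧸ I₀) := φ.toAlgebra
  haveI : Nontrivial (Q ⧸ I₀) := h.domain_nontrivial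
  haveI : IsLocalRing (Q ⧸ I₀) := IsLocalRing.of_surjective' (Ideal.Quotient.mk I₀) Ideal.Quotient.mk_surjective
  haveI : IsLocalHom (algebraMap A (Q ⧸ I₀)) := ⟨fun a ha => isUnit_of_map_unit ψ a (by
    rw [← hφ]; exact ha.map h)⟩
  haveI : Module.Flat A (Q ⧸ I₀) := by
    have h1 : (algebraMap (P ⧸ RingHom.ker ρ) (Q ⧸ I₀)).Flat :=
      RingHom.flat_algebraMap_iff.2 (CatLib.flat_quotient (RingHom.ker ρ))
    exact (RingHom.Flat.of_bijective e.symm.bijective).comp h1
  haveI : IsRegularLocalRing ((Q ⧸ I₀) ⧸ (maximalIdeal A).map (algebraMap A (Q ⧸ I₀))) := by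
    have hM : (maximalIdeal A).map (algebraMap A (Q ⧸ I₀)) =
        ((maximalIdeal P).map τ).map (Ideal.Quotient.mk I₀) := by
      rw [← IsLocalRing.map_maximalIdeal_of_surjective ρ hρ, Ideal.map_map, Ideal.map_map]
      exact congrArg (Ideal.map · _) (RingHom.ext hφρ)
    have hle : I₀ ≤ (maximalIdeal P).map τ := Ideal.map_mono (le_maximalIdeal (RingHom.ker_ne_top ρ))
    exact IsRegularLocalRing.of_ringEquiv (((Ideal.quotEquivOfEq hM).trans
      (DoubleQuot.quotQuotEquivQuotSup I₀ ((maximalIdeal P).map τ))).trans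
      (Ideal.quotEquivOfEq (sup_eq_right.2 hle))).symm
  let pS : C →+* S := (RingHom.fst S S').comp C.subtype
  let pS' : C →+* S' := (RingHom.snd S S').comp C.subtype
  have hpS : Function.Surjective pS := fun s => by
    obtain ⟨s', hs'⟩ := hg' (g s)
    exact ⟨⟨(s, s'), hs'.symm⟩, rfl⟩
  have hpS' : Function.Surjective pS' := fun s' => by
    obtain ⟨s, hs⟩ := hg (g' s')
    exact ⟨⟨(s, s'), hs⟩, rfl⟩
  let q : Q ⧸ I₀ →ₐ[A] S :=
    { pS.comp h with commutes' := fun a => congrArg pS (RingHom.congr_fun hφ a) }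
  let q' : Q ⧸ I₀ →ₐ[A] S' :=
    { pS'.comp h with commutes' := fun a => congrArg pS' (RingHom.congr_fun hφ a) }
  have hgg : g.toRingHom.comp q.toRingHom = g'.toRingHom.comp q'.toRingHom :=
    RingHom.ext fun a => (h a).2
  rw [← isRegularIdeal_ker_comp_iff q (hpS.comp hh) g.toRingHom,
    ← isRegularIdeal_ker_comp_iff q' (hpS'.comp hh) g'.toRingHom, hgg]

/-- Regular ideals descend along completion. -/
theorem isRegularIdeal_map_cpl_iff {S : Type u} [CommRing S] [IsLocalRing S] [IsNoetherianRing S] (K : Ideal S) :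
    IsRegularIdeal (K.map (algebraMap S (Cpl S))) ↔ IsRegularIdeal K := by
  classical
  haveI := isNoetherianRing_cpl S
  haveI := flat_cpl S
  constructor
  · rintro ⟨rs, hrs, he⟩
    obtain ⟨x, hx⟩ := exists_range_eq K
    have hKt : Ideal.span (Set.range fun i => algebraMap S (Cpl S) (x i)) = K.map (algebraMap S (Cpl S)) := by
      conv_rhs => rw [← hx, Ideal.map_span, ← Set.range_comp]
      rfl
    have hlen : rs.length = K.spanFinrank := by
      refine le_antisymm (CILib.length_le_of_span_eq hrs _ (hKt.trans he.symm)) ?_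
      rw [← spanFinrank_map_cpl K, ← he]
      exact CommAlgDim.spanFinrank_ofList_le rs
    obtain ⟨z, hz⟩ : ∃ z : Fin K.spanFinrank → Cpl S, List.ofFn z = rs :=
      ⟨fun i => rs.get (i.cast hlen.symm), by rw [← List.ofFn_congr hlen, List.ofFn_get]⟩
    subst hz
    rw [CILib.ofList_ofFn] at he
    have h2 := CILib.isRegular_of_span_eq _ _ z _ hrs (hKt.trans he.symm)
    refine ⟨List.ofFn x, ?_, (CILib.ofList_ofFn x).trans hx⟩
    refine IsRegular.of_isWeaklyRegular_of_mem_maximalIdeal S (fun r hr => ?_) ?_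
    · have h3 := CommAlgDim.mem_maximalIdeal_of_isRegular h2
      obtain ⟨i, rfl⟩ := List.mem_ofFn.1 hr
      exact fun hu => h3 _ (List.mem_ofFn.2 ⟨i, rfl⟩) (hu.map _)
    rw [isWeaklyRegular_iff]
    intro i hi m₁ m₂ hm
    induction m₁ using Submodule.Quotient.induction_on with | _ a =>
    induction m₂ using Submodule.Quotient.induction_on with | _ b =>
    simp only [← Submodule.Quotient.mk_smul] at hm
    rw [Submodule.Quotient.eq] at hm
    rw [Submodule.Quotient.eq]
    simp only [smul_eq_mul, Ideal.mul_top] at hm ⊢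
    rw [← mul_sub] at hm
    rw [← Ideal.comap_map_eq_self_of_faithfullyFlat (B := Cpl S) (Ideal.ofList _)] at hm ⊢
    rw [Ideal.mem_comap, Ideal.map_ofList, List.map_take, List.map_ofFn] at hm ⊢
    have hj : i < (List.ofFn (algebraMap S (Cpl S) ∘ x)).length := by simpa using hi
    have h4 := h2.toIsWeaklyRegular.regular_mod_prev i hj
    have h5 := @h4 (Submodule.Quotient.mk (algebraMap S (Cpl S) (a - b))) 0 (by
      simp only [smul_zero, ← Submodule.Quotient.mk_smul]
      rw [Submodule.Quotient.mk_eq_zero, smul_eq_mul, smul_eq_mul, Ideal.mul_top]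
      simpa [Function.comp_def, List.getElem_ofFn, map_mul] using hm)
    rw [Submodule.Quotient.mk_eq_zero, smul_eq_mul, Ideal.mul_top] at h5
    exact h5
  · rintro ⟨rs, hrs, rfl⟩
    exact ⟨rs.map (algebraMap S (Cpl S)),
      hrs.of_faithfullyFlat,
      (Ideal.map_ofList _ rs).symm⟩

omit [IsNoetherianRing A] in
/-- Replacing the middle ring of a factorisation by its completion. -/
theorem exists_complete_factorisation {B S : Type u} [CommRing B] [CommRing S]
    [IsNoetherianRing B] [IsNoetherianRing S] [IsLocalRing B] [IsLocalRing S]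
    [IsAdicComplete (maximalIdeal B) B] [Algebra A B] [Algebra A S] [Module.Flat A S]
    [IsRegularLocalRing (S ⧸ (maximalIdeal A).map (algebraMap A S))]
    (g : S →ₐ[A] B) (hg : Function.Surjective g) :
    ∃ (T : Type u) (_ : CommRing T) (_ : IsLocalRing T) (_ : IsNoetherianRing T)
      (_ : IsAdicComplete (maximalIdeal T) T) (_ : Algebra A T) (_ : Module.Flat A T)
      (_ : IsRegularLocalRing (T ⧸ (maximalIdeal A).map (algebraMap A T))) (h : T →ₐ[A] B),
      Function.Surjective h ∧ (IsRegularIdeal (RingHom.ker h.toRingHom) ↔ IsRegularIdeal (RingHom.ker g.toRingHom)) := by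
  haveI := isNoetherianRing_cpl S
  haveI := flat_cpl S
  have hB : Function.Bijective (algebraMap B (Cpl B)) :=
    (AdicCompletion.of_bijective_iff (I := maximalIdeal B) (M := B)).2 inferInstance
  let eB := RingEquiv.ofBijective _ hB
  obtain ⟨σ, hσs, hσ, hker⟩ := exists_cplMap g.toRingHom hg
  let h₀ : Cpl S →+* B := eB.symm.toRingHom.comp σ
  have htow : ∀ a, algebraMap A (Cpl S) a = algebraMap S (Cpl S) (algebraMap A S a) := fun a =>
    IsScalarTower.algebraMap_apply A S (Cpl S) a
  let h : Cpl S →ₐ[A] B :=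
    { h₀ with
      commutes' := fun a => by
        show eB.symm (σ (algebraMap A (Cpl S) a)) = _
        rw [htow, hσ, RingEquiv.symm_apply_eq]
        exact congrArg _ (g.commutes a) }
  have hreg : IsRegularLocalRing (Cpl S ⧸ (maximalIdeal A).map (algebraMap A (Cpl S))) := by
    let M₀ := (maximalIdeal A).map (algebraMap A S)
    obtain ⟨σ₁, hσ₁s, -, hk⟩ := exists_cplMap (Ideal.Quotient.mk M₀) Ideal.Quotient.mk_surjective
    haveI := (Groth.Agent.S0548.result (S ⧸ M₀)).1 inferInstance
    have hM : RingHom.ker σ₁ = (maximalIdeal A).map (algebraMap A (Cpl S)) := by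
      rw [hk, Ideal.mk_ker, Ideal.map_map]
      exact congrArg (Ideal.map · _) (RingHom.ext fun a => (htow a).symm)
    exact IsRegularLocalRing.of_ringEquiv
      ((Ideal.quotEquivOfEq hM.symm).trans (RingHom.quotientKerEquivOfSurjective hσ₁s)).symm
  refine ⟨Cpl S, inferInstance, inferInstance, inferInstance, inferInstance, inferInstance,
    Module.Flat.trans A S (Cpl S), hreg, h, eB.symm.surjective.comp hσs, ?_⟩
  rw [← isRegularIdeal_map_cpl_iff (RingHom.ker g.toRingHom), ← hker]
  rw [show RingHom.ker h.toRingHom = RingHom.ker σ from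
    RingHom.ker_equiv_comp σ eB.symm]

end CIRingLib
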