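import Groth.Agent.CIRingLib.Avramov
import Mathlib

/-!
# Localizations of complete intersections
-/

set_option autoImplicit false
set_option linter.style.haveILetI false

universe u

open RingTheory.Sequence IsLocalRing

namespace CIRingLib

open TransLib (HasRegKer)

theorem ker_localRingHom {R B : Type u} [CommRing R] [CommRing B] (π : R →+* B) (hπ : Function.Surjective π)
    (q : Ideal B) [q.IsPrime] : RingHom.ker (Localization.localRingHom (q.comap π) q π rfl) =
      (RingHom.ker π).map (algebraMap R (Localization.AtPrime (q.comap π))) :=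
  IsLocalization.ker_map (S := Localization.AtPrime (q.comap π)) (Localization.AtPrime q) π
    (Ideal.map_primeCompl_comap_of_surjective (f := π) hπ q)

/-- Localizations of quotients of regular local rings by regular sequences. -/
theorem isCompleteIntersection_atPrime_of_hasRegKer {R B : Type u} [CommRing R] [CommRing B] [IsRegularLocalRing R]
    (π : R →+* B) (hπ : Function.Surjective π) (h : HasRegKer π) (q : Ideal B) [q.IsPrime] :
    Pi1.IsCompleteIntersection (Localization.AtPrime q) := by
  haveI : IsNoetherianRing B := isNoetherianRing_of_surjective R B π hπ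
  haveI : IsRegularRing R := CommAlgDim.isRegularRing_of_isRegularLocalRing R
  let P := q.comap π
  let L := Localization.AtPrime P
  haveI : IsRegularLocalRing L := IsRegularRing.isRegularLocalRing_localization P
  obtain ⟨rs, hrs, hk⟩ := h
  refine (isCompleteIntersection_iff (Localization.localRingHom P q π rfl)
    (RingHom.surjective_localRingHom_of_surjective π hπ q)).2 ⟨rs.map (algebraMap R L), ?_, ?_⟩
  · refine IsRegular.of_isWeaklyRegular_of_mem_maximalIdeal _ ?_ hrs.toIsWeaklyRegular.of_flat
    intro x hx
    obtain ⟨r, hr, rfl⟩ := List.mem_map.1 hx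
    refine (IsLocalization.AtPrime.to_map_mem_maximal_iff L P r).2 ?_
    show π r ∈ q
    rw [show π r = 0 from hk.le (Ideal.subset_span hr)]
    exact zero_mem q
  · rw [← Ideal.map_ofList, hk]
    exact (ker_localRingHom π hπ q).symm

/-- Localizations of complete intersections are complete intersections. -/
theorem isCompleteIntersection_atPrime {A : Type u} [CommRing A] [IsNoetherianRing A] [IsLocalRing A]
    (hA : Pi1.IsCompleteIntersection A) (p : Ideal A) [p.IsPrime] :
    Pi1.IsCompleteIntersection (Localization.AtPrime p) := by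
  haveI := isNoetherianRing_cpl A
  haveI := flat_cpl A
  obtain ⟨R, _, _, π, hπ, hker⟩ := isCompleteIntersection_iff_exists.1 hA
  obtain ⟨q, hq⟩ := PrimeSpectrum.comap_surjective_of_faithfullyFlat (B := Cpl A) ⟨p, inferInstance⟩
  have hqp : p = q.asIdeal.comap (algebraMap A (Cpl A)) := (congrArg PrimeSpectrum.asIdeal hq).symm
  let φ := Localization.localRingHom p q.asIdeal (algebraMap A (Cpl A)) hqp
  letI := φ.toAlgebra
  haveI : IsLocalHom (algebraMap (Localization.AtPrime p) (Localization.AtPrime q.asIdeal)) :=
    Localization.isLocalHom_localRingHom p q.asIdeal (algebraMap A (Cpl A)) hqp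
  haveI : IsScalarTower A (Localization.AtPrime p) (Localization.AtPrime q.asIdeal) :=
    IsScalarTower.of_algebraMap_eq fun x => by
      rw [IsScalarTower.algebraMap_apply A (Cpl A) (Localization.AtPrime q.asIdeal)]
      exact (Localization.localRingHom_to_map p q.asIdeal (algebraMap A (Cpl A)) hqp x).symm
  haveI : Module.Flat A (Localization.AtPrime q.asIdeal) := Module.Flat.trans A (Cpl A) _
  haveI : Module.Flat (Localization.AtPrime p) (Localization.AtPrime q.asIdeal) :=
    (Module.flat_iff_of_isLocalization (Localization.AtPrime p) p.primeCompl _).2 inferInstance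
  haveI := isLocalRing_quotient (I := (maximalIdeal (Localization.AtPrime p)).map
    (algebraMap (Localization.AtPrime p) (Localization.AtPrime q.asIdeal)))
    (ne_top_of_le_ne_top (maximalIdeal.isMaximal _).ne_top (((local_hom_TFAE _).out 0 2).1 ‹_›))
  exact (isCompleteIntersection_iff_of_flat.1
    (isCompleteIntersection_atPrime_of_hasRegKer π hπ hker q.asIdeal)).1

/-- Transport along ring isomorphisms. -/
theorem isCompleteIntersection_congr {A A' : Type u} [CommRing A] [CommRing A'] [IsLocalRing A] [IsLocalRing A']
    [IsNoetherianRing A] [IsNoetherianRing A'] (e : A ≃+* A') (h : Pi1.IsCompleteIntersection A) :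
    Pi1.IsCompleteIntersection A' := by
  obtain ⟨R, _, _, π, hπ, hker⟩ := isCompleteIntersection_iff_exists.1 h
  obtain ⟨σ, hσ, -, hk⟩ := exists_cplMap e.toRingHom e.surjective
  have h0 : RingHom.ker σ = ⊥ := by
    rw [hk, show RingHom.ker e.toRingHom = ⊥ from (RingHom.injective_iff_ker_eq_bot _).1 e.injective, Ideal.map_bot]
  refine (isCompleteIntersection_iff_cpl (σ.comp π) (hσ.comp hπ)).2 ?_
  obtain ⟨rs, hrs, hk'⟩ := hker
  refine ⟨rs, hrs, ?_⟩
  rw [← RingHom.comap_ker, h0, ← RingHom.ker_eq_comap_bot, hk']

theorem isCompleteIntersection_atPrime_iff_atMaximal {A : Type u} [CommRing A] [IsNoetherianRing A] :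
    (∀ (p : Ideal A) [p.IsPrime], Pi1.IsCompleteIntersection (Localization.AtPrime p)) ↔
    (∀ (m : Ideal A) [m.IsMaximal], Pi1.IsCompleteIntersection (Localization.AtPrime m)) := by
  refine ⟨fun h m _ => h m, fun h p hp => ?_⟩
  obtain ⟨m, hm, hpm⟩ := Ideal.exists_le_maximal p hp.ne_top
  have hdisj : Disjoint (m.primeCompl : Set A) p := Set.disjoint_left.2 fun x hx hxp => hx (hpm hxp)
  let P := p.map (algebraMap A (Localization.AtPrime m))
  haveI : P.IsPrime := IsLocalization.isPrime_of_isPrime_disjoint m.primeCompl _ p hp hdisj
  have hP : P.under A = p := IsLocalization.comap_map_of_isPrime_disjoint m.primeCompl _ hp hdisj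
  have h1 := isCompleteIntersection_atPrime (h m) P
  have h2 := isCompleteIntersection_congr
    (IsLocalization.localizationLocalizationAtPrimeIsoLocalization m.primeCompl P).symm.toRingEquiv h1
  clear_value P
  subst hP
  exact h2

end CIRingLib
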