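import Groth.Agent.CIRingLib.Avramov
import Groth.Agent.CILib.TorDim
import Groth.Agent.DiagLib.FD
import Groth.Agent.TorDimLib.Basic
import Groth.Agent.TorDimLib.FlatVanish
import Groth.Agent.S0390
import Groth.Prelude.Def_CInt
import Mathlib

/-!
# Tor against the residue field, over a flat algebra with regular closed fibre
-/

set_option autoImplicit false
set_option linter.style.haveILetI false

noncomputable section

universe u

open RingTheory.Sequence IsLocalRing CInt CategoryTheory TensorProduct TorDimLib CommAlgDim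

namespace CIRingLib

/-- Regular ideals descend along flat local maps. -/
theorem isRegularIdeal_map_flat_iff {R S : Type u} [CommRing R] [CommRing S] [IsLocalRing R] [IsLocalRing S]
    [IsNoetherianRing R] [IsNoetherianRing S] [Algebra R S] [IsLocalHom (algebraMap R S)] [Module.Flat R S]
    (K : Ideal R) : IsRegularIdeal (K.map (algebraMap R S)) ↔ IsRegularIdeal K := by
  classical
  haveI : Module.FaithfullyFlat R S := Module.FaithfullyFlat.of_flat_of_isLocalHom
  constructor
  · rintro ⟨rs, hrs, he⟩
    obtain ⟨x, hx⟩ := exists_range_eq K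
    have hKt : Ideal.span (Set.range fun i => algebraMap R S (x i)) = K.map (algebraMap R S) := by
      conv_rhs => rw [← hx, Ideal.map_span, ← Set.range_comp]
      rfl
    have hlen : rs.length = K.spanFinrank := by
      refine le_antisymm (CILib.length_le_of_span_eq hrs _ (hKt.trans he.symm)) ?_
      refine (spanFinrank_le_map (S := S) K).trans ?_
      rw [← he]
      exact CommAlgDim.spanFinrank_ofList_le rs
    obtain ⟨z, hz⟩ : ∃ z : Fin K.spanFinrank → S, List.ofFn z = rs :=
      ⟨fun i => rs.get (i.cast hlen.symm), by rw [← List.ofFn_congr hlen, List.ofFn_get]⟩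
    subst hz
    rw [CILib.ofList_ofFn] at he
    have h2 := CILib.isRegular_of_span_eq _ _ z _ hrs (hKt.trans he.symm)
    refine ⟨List.ofFn x, ?_, (CILib.ofList_ofFn x).trans hx⟩
    refine IsRegular.of_isWeaklyRegular_of_mem_maximalIdeal R (fun r hr => ?_) ?_
    · have h3 := CommAlgDim.mem_maximalIdeal_of_isRegular h2
      obtain ⟨i, rfl⟩ := List.mem_ofFn.1 hr
      exact fun hu => h3 _ (List.mem_ofFn.2 ⟨i, rfl⟩) (hu.map _)
    rw [isWeaklyRegular_iff]
    intro i hi m₁ m₂ hm
    induction m₁ using Submodule.Quotient.induction_on with | _ a =>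
    induction m₂ using Submodule.Quotient.induction_on with | _ b =>
    simp only [← Submodule.Quotient.mk_smul] at hm
    rw [Submodule.Quotient.eq] at hm
    rw [Submodule.Quotient.eq]
    simp only [smul_eq_mul, Ideal.mul_top] at hm ⊢
    rw [← mul_sub] at hm
    rw [← Ideal.comap_map_eq_self_of_faithfullyFlat (B := S) (Ideal.ofList _)] at hm ⊢
    rw [Ideal.mem_comap, Ideal.map_ofList, List.map_take, List.map_ofFn] at hm ⊢
    have hj : i < (List.ofFn (algebraMap R S ∘ x)).length := by simpa using hi
    have h4 := h2.toIsWeaklyRegular.regular_mod_prev i hj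
    have h5 := @h4 (Submodule.Quotient.mk (algebraMap R S (a - b))) 0 (by
      simp only [smul_zero, ← Submodule.Quotient.mk_smul]
      rw [Submodule.Quotient.mk_eq_zero, smul_eq_mul, smul_eq_mul, Ideal.mul_top]
      simpa [Function.comp_def, List.getElem_ofFn, map_mul] using hm)
    rw [Submodule.Quotient.mk_eq_zero, smul_eq_mul, Ideal.mul_top] at h5
    exact h5
  · rintro ⟨rs, hrs, rfl⟩
    exact ⟨rs.map (algebraMap R S), hrs.of_faithfullyFlat, (Ideal.map_ofList _ rs).symm⟩

/-- Dividing by a weakly regular sequence raises the projective dimension at most by its length. -/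
theorem pdlt_quot_ofList {P : Type u} [CommRing P] : ∀ (rs : List P) (M : Type u) [AddCommGroup M] [Module P M]
    (n : ℕ), IsWeaklyRegular M rs → PDLT P M (n + 1) →
      PDLT P (M ⧸ (Ideal.ofList rs • ⊤ : Submodule P M)) (n + 1 + rs.length) := by
  intro rs
  induction rs with
  | nil =>
    intro M _ _ n _ h
    exact PDLT.of_equiv (Submodule.quotEquivOfEqBot _ (by simp)).symm h
  | cons r rs ih =>
    intro M _ _ n h1 h
    rw [isWeaklyRegular_cons_iff] at h1
    let g : ModuleCat.of P M ⟶ ModuleCat.of P (QuotSMulTop r M) := ModuleCat.ofHom (Submodule.mkQ _)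
    have w : (r • 𝟙 (ModuleCat.of P M)) ≫ g = 0 := by
      refine ModuleCat.hom_ext (LinearMap.ext fun m => ?_)
      exact (Submodule.Quotient.mk_eq_zero _).2 (Submodule.smul_mem_pointwise_smul m r _ trivial)
    have hS : (ShortComplex.mk (r • 𝟙 (ModuleCat.of P M)) g w).ShortExact := by
      refine ShortComplex.ShortExact.mk' ?_ ?_ ?_
      · rw [ShortComplex.moduleCat_exact_iff]
        intro m hm
        obtain ⟨m', -, hm'⟩ := (Submodule.Quotient.mk_eq_zero _).1 hm
        exact ⟨m', hm'⟩
      · rw [ModuleCat.mono_iff_injective]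
        exact h1.1
      · rw [ModuleCat.epi_iff_surjective]
        exact Submodule.mkQ_surjective _
    have hq : PDLT P (QuotSMulTop r M) (n + 1 + 1) :=
      hS.hasProjectiveDimensionLT_X₃ (n + 1) h (h.mono (Nat.le_succ _))
    have := PDLT.of_equiv (Submodule.quotOfListConsSMulTopEquivQuotSMulTopInner M r rs).symm
      (ih (QuotSMulTop r M) (n + 1) h1.2 hq)
    rw [show n + 1 + (r :: rs).length = n + 1 + 1 + rs.length by simp; omega]
    exact this

/-- Exactness of a tensored resolution of `A ⧸ J` in degree one makes `M ⊗ J → M` injective. -/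
theorem lTensor_injective_of_exactAtSucc {A : Type u} [CommRing A] (J : Ideal A) {M : Type u} [AddCommGroup M]
    [Module A M] (P : ProjectiveResolution (ModuleCat.of A (A ⧸ J))) (h : ExactAtSucc M P 0) :
    Function.Injective (J.subtype.lTensor M) := by
  let π : P.complex.X 0 →ₗ[A] A ⧸ J := (P.π.f 0).hom
  let D1 := (P.complex.d 1 0).hom
  have hπ : Function.Surjective π := (ModuleCat.epi_iff_surjective (P.π.f 0)).1 inferInstance
  have hex : Function.Exact D1 π :=
    (ShortComplex.ShortExact.moduleCat_exact_iff_function_exact _).1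
      (ShortComplex.exact_of_g_is_cokernel (S := ShortComplex.mk _ _ P.complex_d_comp_π_f_zero) P.isColimitCokernelCofork)
  -- the kernel stays injective after tensoring
  have hK : Function.Injective ((LinearMap.ker π).subtype.lTensor M) := by
    refine (injective_iff_map_eq_zero _).2 fun y hy => ?_
    let D1' : P.complex.X 1 →ₗ[A] LinearMap.ker π := D1.codRestrict _ hex.apply_apply_eq_zero
    have hD1' : Function.Surjective D1' := fun x => by
      obtain ⟨z, hz⟩ := (hex x.1).1 x.2
      exact ⟨z, Subtype.ext hz⟩
    obtain ⟨z, rfl⟩ := LinearMap.lTensor_surjective M hD1' y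
    rw [← LinearMap.comp_apply, ← LinearMap.lTensor_comp] at hy
    obtain ⟨w, rfl⟩ := (h z).1 hy
    rw [← LinearMap.comp_apply, ← LinearMap.lTensor_comp]
    rw [show D1'.comp (P.complex.d 2 1).hom = 0 from LinearMap.ext fun x => Subtype.ext (by
      show ((P.complex.d 2 1) ≫ (P.complex.d 1 0)).hom x = 0
      rw [HomologicalComplex.d_comp_d]; rfl)]
    simp
  -- comparison with the presentation by `A`
  have : Module.Projective A (P.complex.X 0) := (IsProjective.iff_projective _).2 (P.projective 0)
  obtain ⟨a, ha⟩ := Module.projective_lifting_property π (J.mkQ : A →ₗ[A] A ⧸ J) hπ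
  obtain ⟨b, hb⟩ := Module.projective_lifting_property (J.mkQ : A →ₗ[A] A ⧸ J) π J.mkQ_surjective
  let a' : J →ₗ[A] LinearMap.ker π := (a ∘ₗ J.subtype).codRestrict _ fun x => by
    rw [LinearMap.mem_ker, LinearMap.comp_apply, ← LinearMap.comp_apply π a, ha]
    exact (Submodule.Quotient.mk_eq_zero J).2 x.2
  let b' : LinearMap.ker π →ₗ[A] J := (b ∘ₗ (LinearMap.ker π).subtype).codRestrict _ fun x => by
    rw [← Submodule.Quotient.mk_eq_zero J, ← Submodule.mkQ_apply, LinearMap.comp_apply,
      ← LinearMap.comp_apply J.mkQ b, hb]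
    exact x.2
  let g : A →ₗ[A] J := (b ∘ₗ a - LinearMap.id).codRestrict _ fun x => by
    rw [← Submodule.Quotient.mk_eq_zero J, ← Submodule.mkQ_apply, LinearMap.sub_apply, map_sub,
      LinearMap.comp_apply, ← LinearMap.comp_apply J.mkQ b, hb, ← LinearMap.comp_apply π a, ha]
    simp
  have hid : (LinearMap.id : J →ₗ[A] J) = b' ∘ₗ a' - g ∘ₗ J.subtype :=
    LinearMap.ext fun x => Subtype.ext (by
      show (x : A) = b (a x) - (b (a x) - x)
      rw [sub_sub_cancel])
  refine (injective_iff_map_eq_zero _).2 fun x hx => ?_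
  have h1 : a'.lTensor M x = 0 := (injective_iff_map_eq_zero _).1 hK _ (by
    rw [← LinearMap.comp_apply, ← LinearMap.lTensor_comp,
      show (LinearMap.ker π).subtype ∘ₗ a' = a ∘ₗ J.subtype from rfl, LinearMap.lTensor_comp,
      LinearMap.comp_apply, hx, map_zero])
  have h2 : (LinearMap.id : J →ₗ[A] J).lTensor M x = 0 := by
    rw [hid, LinearMap.lTensor_sub, LinearMap.sub_apply, LinearMap.lTensor_comp, LinearMap.lTensor_comp,
      LinearMap.comp_apply, LinearMap.comp_apply, h1, hx, map_zero, map_zero, sub_zero]
  simpa using h2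

variable {A B : Type u} [CommRing A] [CommRing B] [IsNoetherianRing A] [IsNoetherianRing B] [IsLocalRing A]
  [IsLocalRing B] [Algebra A B] [IsLocalHom (algebraMap A B)] [Module.Flat A B]
  [IsRegularLocalRing (B ⧸ (maximalIdeal A).map (algebraMap A B))]

/-- If the Tor groups against the residue field vanish in high degrees then the projective dimension over a
flat algebra with regular closed fibre is finite. -/
theorem exists_pdlt_of_exactAtSucc (J : Ideal A) (hJ : J = maximalIdeal A)
    (P : ProjectiveResolution (ModuleCat.of A (A ⧸ J))) : ∀ (n : ℕ) (M : Type u) [AddCommGroup M]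
    [Module B M] [Module.Finite B M] [Module A M] [IsScalarTower A B M],
    (∀ p, n ≤ p → ExactAtSucc M P p) → ∃ N, PDLT B M (N + 1)
  | 0, M, _, _, _, _, _, h => by
    have h1 := lTensor_injective_of_exactAtSucc J P (h 0 le_rfl)
    haveI : Module.Flat A M := Groth.Agent.S0390.result (S := B) (M := M) (by
      subst hJ
      intro x y hxy
      apply (TensorProduct.comm A (maximalIdeal A) M).injective
      apply h1
      have := congrArg (TensorProduct.comm A A M) hxy
      rw [LinearMap.rTensor_def, ← TensorProduct.map_comm, ← TensorProduct.map_comm] at this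
      exact this)
    have hp : (maximalIdeal A).map (algebraMap A B) ≤ maximalIdeal B :=
      ((local_hom_TFAE (algebraMap A B)).out 0 2).1 ‹_›
    refine ⟨(maximalIdeal (B ⧸ (maximalIdeal A).map (algebraMap A B))).spanFinrank,
      (DepthLib.pdlt_fibre_iff A (maximalIdeal A) hp _ M).1 ?_⟩
    exact pdlt_of_regular_aux _ _ rfl _
  | n + 1, M, _, _, _, _, _, h => by
    obtain ⟨k, g, hg⟩ := Module.Finite.exists_fin' B M
    haveI : Module.Flat A (Fin k → B) := Module.Flat.trans A B _
    have hK : ∀ p, n ≤ p → ExactAtSucc (LinearMap.ker g) P p := fun p hp =>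
      exactAtSucc_shift ((LinearMap.ker g).subtype.restrictScalars A) (g.restrictScalars A) Subtype.val_injective
        (LinearMap.exact_subtype_ker_map g) hg P p (h (p + 1) (by omega))
    obtain ⟨N, hN⟩ := exists_pdlt_of_exactAtSucc J hJ P n (LinearMap.ker g) hK
    exact ⟨N + 1, (pdlt_ker_iff g hg N).2 hN⟩

end CIRingLib
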